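import Cfsg.Agent.Lib.FusionWeakNormal.Key

/-!
# The `p'`-residual of a weakly normal subsystem is normal
-/

set_option autoImplicit false

namespace CfsgLib.FusionWeakNormal

open Cfsg Cfsg.FusionSystem CfsgLib.Fusion

variable {Ω : Type*} [Group Ω] {S T : Subgroup Ω} {F : Cfsg.FusionSystem S} {E : Cfsg.FusionSystem T}
variable {P Q : Subgroup Ω} {p : ℕ}

/-- The part of `p'`-order of an automorphism is a power of it. -/
theorem exists_pow_coprime {G : Type*} [Group G] [Finite G] [Fact p.Prime] (a : G) :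
    ∃ n, (orderOf (a ^ n)).Coprime p ∧ ∃ i k, a ^ n = a ^ i * a ∧ orderOf (a ^ i) = p ^ k := by
  have hp : p.Prime := Fact.out
  obtain ⟨k, m, hm, hord⟩ := Nat.exists_eq_pow_mul_and_not_dvd (orderOf_pos a).ne' p hp.ne_one
  have hm0 : 0 < m := Nat.pos_of_ne_zero fun h => hm (h ▸ dvd_zero p)
  have hco : (p ^ k).Coprime m := (hp.coprime_iff_not_dvd.2 hm).pow_left k
  obtain ⟨n, hn1, hn2⟩ := Nat.chineseRemainder hco 0 1
  refine ⟨n, ?_, ?_⟩
  · have h1 : (a ^ n) ^ m = 1 := by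
      rw [← pow_mul]
      refine orderOf_dvd_iff_pow_eq_one.1 (hord ▸ ?_)
      exact Nat.mul_dvd_mul_right (Nat.modEq_zero_iff_dvd.1 hn1) m
    exact ((hp.coprime_iff_not_dvd.2 hm).coprime_dvd_right (orderOf_dvd_of_pow_eq_one h1)).symm
  · refine ⟨n + (orderOf a - 1), ?_⟩
    have hpos := orderOf_pos a
    have h2 : a ^ n = a ^ (n + (orderOf a - 1)) * a := by
      rw [← pow_succ, show n + (orderOf a - 1) + 1 = n + orderOf a by omega, pow_add, pow_orderOf_eq_one, mul_one]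
    have h3 : (a ^ (n + (orderOf a - 1))) ^ p ^ k = 1 := by
      rw [← pow_mul]
      refine orderOf_dvd_iff_pow_eq_one.1 (hord ▸ ?_)
      rw [mul_comm (p ^ k) m]
      refine Nat.mul_dvd_mul_right ?_ _
      have h4 : n + (orderOf a - 1) + 1 ≡ 0 + 1 [MOD m] := by
        rw [show n + (orderOf a - 1) + 1 = n + orderOf a by omega, zero_add]
        exact (hn2.add (Nat.modEq_zero_iff_dvd.2 (hord ▸ dvd_mul_left m (p ^ k)))).trans (by rw [add_zero])
      rw [hord, mul_comm (p ^ k) m] at h4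
      exact Nat.modEq_zero_iff_dvd.1 (Nat.ModEq.add_right_cancel' 1 h4)
    obtain ⟨j, -, hj⟩ := (Nat.dvd_prime_pow hp).1 (orderOf_dvd_of_pow_eq_one h3)
    exact ⟨j, h2, hj⟩

theorem orderOf_map_mulAut {a : MulAut Q} {H : Subgroup (MulAut Q)} (ha : a ∈ H) :
    orderOf (⟨a, ha⟩ : H) = orderOf a := (Subgroup.orderOf_coe (⟨a, ha⟩ : H)).symm

/-- The extensions of an automorphism of the base. -/
theorem exists_extension_base [Finite S] [Fact p.Prime] (hS : IsPGroup p S) (hF : F.IsSaturated p)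
    (hinv : E.IsInvariantIn F) {b : MulAut T} (hb : b ∈ F.autGroup T) :
    ∃ β ∈ F.autGroup (T ⊔ centralizerIn S T), ∀ x : T,
      (β ⟨x, le_sup_left (b := centralizerIn S T) x.2⟩ : Ω) = (b x : Ω) := by
  have hTS := hinv.2.1.1
  have hR : T ⊔ centralizerIn S T ≤ normalizerIn S T :=
    sup_le (le_normalizerIn hTS) (centralizerIn_le_normalizerIn S T)
  have hbiso : IsFIso F (b : T ≃* T) := (mem_autGroup_iff hTS).1 hb
  have hext : T ⊔ centralizerIn S T ≤ extender S T (T.subtype.comp b.toMonoidHom) :=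
    sup_le (le_extender hTS fun x => map_mem hbiso x) (centralizerIn_le_extender _)
  obtain ⟨g, hg, -, hgx⟩ := hbiso.exists_extension
    (isReceptive_of_isFullyNormalized hS hF (isFullyNormalized_base hinv)) le_sup_left hR
    fun u hu => (mem_extender_iff_congr _ (fun _ => rfl) (hR hu).1 (hR hu).2).1 (hext hu)
  have : Finite ↥(T ⊔ centralizerIn S T) := finite_of_le (hR.trans (normalizerIn_le S T))
  have hgW : ∀ u, g u ∈ T ⊔ centralizerIn S T := by
    have h : T ⊔ centralizerIn S T ≤ ((T ⊔ centralizerIn S T).comap g).map (T ⊔ centralizerIn S T).subtype := by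
      refine sup_le (fun x hx => ⟨⟨x, le_sup_left (b := centralizerIn S T) hx⟩, ?_, rfl⟩) fun u hu =>
        ⟨⟨u, le_sup_right (a := T) hu⟩, ?_, rfl⟩
      · show g _ ∈ T ⊔ centralizerIn S T
        rw [hgx ⟨x, hx⟩]
        exact le_sup_left (b := centralizerIn S T) (Subtype.coe_prop _)
      · exact le_sup_right (a := T) (show g _ ∈ centralizerIn S T from
          ⟨map_mem hg _, map_mem_centralizer_of_commute le_sup_left hgx _ hu.2⟩)
    intro u
    obtain ⟨u', hu', e'⟩ := h u.2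
    rwa [show u' = u from Subtype.ext e'] at hu'
  obtain ⟨β, hβ, hβx⟩ := exists_aut hg (range_eq_of_le (hom_inj hg) hgW)
  exact ⟨β, hβ, fun x => (hβx _).trans (hgx x)⟩

/-- An automorphism of `T` of order prime to `p` with a trivial extension from a centric subgroup has one
from `T`. -/
theorem mem_extSystem_of_coprime [Finite S] [Fact p.Prime] (hS : IsPGroup p S) (hE : E.IsWeaklyNormalIn F p)
    {b : MulAut T} (hb : b ∈ E.autGroup T) (hord : (orderOf b).Coprime p) (hP : E.IsCentric P)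
    (h : (T.subtype.comp b.toMonoidHom).comp (Subgroup.inclusion hP.1) ∈ (extSystem hE.2.2).Hom P) :
    b ∈ (extSystem hE.2.2).autGroup T := by
  obtain ⟨hEs, hF, hinv⟩ := hE
  have hTS := hinv.2.1.1
  have : Finite T := finite_sub hinv
  have hTC : T ⊔ centralizerIn S T ≤ S := sup_le_sub hinv le_rfl
  have : Finite ↥(T ⊔ centralizerIn S T) := finite_of_le hTC
  have : Finite (MulAut ↥(T ⊔ centralizerIn S T)) := finite_mulAut
  obtain ⟨β₀, hβ₀, hβ₀x⟩ :=
    exists_extension_base hS hF hinv (CfsgLib.FusionQuot.autGroup_le_of_subsystem hinv.1 T hb)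
  have hpow : ∀ (i : ℕ) (x : T), ((β₀ ^ i) ⟨x, le_sup_left (b := centralizerIn S T) x.2⟩ : Ω) = ((b ^ i) x : Ω) := by
    intro i
    induction i with
    | zero => intro x; rfl
    | succ i ih =>
      intro x
      rw [pow_succ', pow_succ', MulAut.mul_apply, MulAut.mul_apply]
      rw [show (β₀ ^ i) ⟨x, le_sup_left (b := centralizerIn S T) x.2⟩ =
        ⟨((b ^ i) x : Ω), le_sup_left (b := centralizerIn S T) ((b ^ i) x).2⟩ from Subtype.ext (ih x), hβ₀x]
  obtain ⟨k, m, hm, hk⟩ := Nat.exists_eq_pow_mul_and_not_dvd (orderOf_pos β₀).ne' p (Fact.out : p.Prime).ne_one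
  obtain ⟨j, hj⟩ := exists_pow_eq_self_of_coprime (x := b) (n := p ^ k) (Nat.Coprime.pow_left k hord.symm)
  set β := (β₀ ^ p ^ k) ^ j with hβdef
  have hβ : β ∈ F.autGroup (T ⊔ centralizerIn S T) := pow_mem (pow_mem hβ₀ _) _
  have hβx : ∀ x : T, (β ⟨x, le_sup_left (b := centralizerIn S T) x.2⟩ : Ω) = (b x : Ω) := fun x => by
    rw [hβdef, ← pow_mul, hpow, pow_mul, hj]
  have hβord : (orderOf β).Coprime p := by
    have h1 : β ^ m = 1 := by
      rw [hβdef, ← pow_mul, ← pow_mul, mul_comm j m, ← mul_assoc, pow_mul, ← hk, pow_orderOf_eq_one, one_pow]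
    exact (((Fact.out : p.Prime).coprime_iff_not_dvd.2 hm).coprime_dvd_right (orderOf_dvd_of_pow_eq_one h1)).symm
  set γ := β⁻¹ with hγdef
  have hγ : γ ∈ F.autGroup (T ⊔ centralizerIn S T) := inv_mem hβ
  have hγT : ∀ x : ↥(T ⊔ centralizerIn S T), (x : Ω) ∈ T → (γ x : Ω) ∈ T := fun x hx =>
    map_mem_closed hinv ((mem_autGroup_iff_hom hTC).1 hγ) x hx
  have hβT : ∀ x : ↥(T ⊔ centralizerIn S T), (x : Ω) ∈ T → (β x : Ω) ∈ T := fun x hx =>
    map_mem_closed hinv ((mem_autGroup_iff_hom hTC).1 hβ) x hx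
  obtain ⟨hφE, hext⟩ := h
  obtain ⟨χ, hχ, hχx, hχc⟩ := hext hP
  set φ := (T.subtype.comp b.toMonoidHom).comp (Subgroup.inclusion hP.1) with hφ
  set Pb := φ.range with hPb
  have hPbc : E.IsCentric Pb := isCentric_of_isConj hP (isConj_of_mem hφE)
  have hWT : Pb ⊔ centralizerIn S T ≤ T ⊔ centralizerIn S T := sup_le_sup_right hPbc.1 _
  -- `β⁻¹` maps `Pb C` into `P C`
  set g := ((T ⊔ centralizerIn S T).subtype.comp γ.toMonoidHom).comp (Subgroup.inclusion hWT) with hg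
  have hgP : ∀ y, g y ∈ P ⊔ centralizerIn S T := by
    have h : Pb ⊔ centralizerIn S T ≤
        ((P ⊔ centralizerIn S T).comap g).map (Pb ⊔ centralizerIn S T).subtype := by
      refine sup_le ?_ fun c hc => ⟨⟨c, le_sup_right (a := Pb) hc⟩,
        le_sup_right (a := P) (centralizerIn_apply_mem hγ hTS hγT hc), rfl⟩
      rintro _ ⟨x, rfl⟩
      refine ⟨⟨φ x, le_sup_left (b := centralizerIn S T) ⟨x, rfl⟩⟩, ?_, rfl⟩
      show g _ ∈ P ⊔ centralizerIn S T
      have h1 : g ⟨φ x, le_sup_left (b := centralizerIn S T) ⟨x, rfl⟩⟩ = (x : Ω) := by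
        have h2 : (⟨φ x, hWT (le_sup_left (b := centralizerIn S T) ⟨x, rfl⟩)⟩ : ↥(T ⊔ centralizerIn S T)) =
            β ⟨x, le_sup_left (b := centralizerIn S T) (hP.1 x.2)⟩ := Subtype.ext (hβx ⟨x, hP.1 x.2⟩).symm
        show (γ ⟨φ x, _⟩ : Ω) = x
        rw [h2, hγdef, MulAut.inv_apply_self]
      rw [h1]
      exact le_sup_left (b := centralizerIn S T) x.2
    intro y
    obtain ⟨y', hy', e'⟩ := h y.2
    rwa [show y' = y from Subtype.ext e'] at hy'
  have hgF : g ∈ F.Hom _ := restrict_mem ((mem_autGroup_iff_hom hTC).1 hγ) hWT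
  have hvF : χ.comp (g.codRestrict _ hgP) ∈ F.Hom _ := F.comp_mem hgF hχ hgP
  have : Finite ↥(Pb ⊔ centralizerIn S T) := finite_of_le (sup_le_sub hinv hPbc.1)
  obtain ⟨v, hv, hvx⟩ := exists_aut hvF (range_eq_of_le (hom_inj hvF) fun y => range_le_sup hP hφE hχx hχc _)
  have hlift : Lifts F T Pb γ := by
    refine ⟨v, hv, fun w hw => Subtype.ext ?_, fun c hc => ?_⟩
    · obtain ⟨x, hx⟩ := hw
      rw [hvx]
      show χ ⟨g w, hgP w⟩ = w
      have h1 : (⟨g w, hgP w⟩ : ↥(P ⊔ centralizerIn S T)) = Subgroup.inclusion le_sup_left x := by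
        refine Subtype.ext ?_
        have h2 : (Subgroup.inclusion hWT w) = β ⟨x, le_sup_left (b := centralizerIn S T) (hP.1 x.2)⟩ :=
          Subtype.ext (hx.symm.trans (hβx ⟨x, hP.1 x.2⟩).symm)
        show (γ (Subgroup.inclusion hWT w) : Ω) = x
        rw [h2, hγdef, MulAut.inv_apply_self]
      rw [h1, hχx, hx]
    · rw [hvx]
      exact hχc ⟨(γ ⟨c, le_sup_right (a := T) hc⟩ : Ω), hgP ⟨c, le_sup_right (a := Pb) hc⟩⟩
        (centralizerIn_apply_mem hγ hTS hγT hc)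
  have hγord : (orderOf γ).Coprime p := by rwa [hγdef, orderOf_inv]
  obtain ⟨w, hw, hwT, hwC⟩ := hlift.base hS ⟨hEs, hF, hinv⟩ hPbc hγ hγT hγord
  refine (mem_autGroup_iff_hom le_rfl).2 ⟨(mem_autGroup_iff_hom le_rfl).1 hb, fun _ => ?_⟩
  refine ⟨(T ⊔ centralizerIn S T).subtype.comp (w * β).toMonoidHom,
    (mem_autGroup_iff_hom hTC).1 (mul_mem hw hβ), fun x => ?_, fun c hc => ?_⟩
  · show ((w (β ⟨x, le_sup_left (b := centralizerIn S T) x.2⟩) : ↥(T ⊔ centralizerIn S T)) : Ω) = (b x : Ω)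
    rw [show β ⟨x, le_sup_left (b := centralizerIn S T) x.2⟩ =
      ⟨(b x : Ω), le_sup_left (b := centralizerIn S T) (b x).2⟩ from Subtype.ext (hβx x), hwT _ (b x).2]
  · show (c : Ω)⁻¹ * ((w (β c) : ↥(T ⊔ centralizerIn S T)) : Ω) ∈ T
    have h1 := hwC _ (centralizerIn_apply_mem hβ hTS hβT hc)
    rw [show (⟨(β ⟨(c : Ω), le_sup_right (a := T) hc⟩ : Ω), le_sup_right (a := T)
        (centralizerIn_apply_mem hβ hTS hβT hc)⟩ : ↥(T ⊔ centralizerIn S T)) = β c from Subtype.ext rfl,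
      hγdef, MulAut.inv_apply_self] at h1
    exact h1

/-- The system of maps with trivial extensions is closed under extension from centric subgroups. -/
theorem isCentricClosed_extSystem [Finite S] [Fact p.Prime] (hS : IsPGroup p S) (hE : E.IsWeaklyNormalIn F p) :
    IsCentricClosed E (extSystem hE.2.2) := by
  intro Q R hQR ψ hψ hQ h
  have hT := isPGroup_sub hE.2.2 hS
  have : Finite T := finite_sub hE.2.2
  have : Finite (MulAut T) := finite_mulAut
  obtain ⟨a, ha, ψ₀, hψ₀, hx⟩ := pPrimeGenSystem_factors hT hE.1 R ψ hψ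
  have hψ₀Φ := pPrimeGenSystem_le (isPPrimeGen_extSystem hS hE) R hψ₀
  set φ₀ := ψ₀.comp (Subgroup.inclusion hQR)
  have hφ₀ : φ₀ ∈ (extSystem hE.2.2).Hom Q := restrict_mem hψ₀Φ hQR
  obtain ⟨θ, hθ, hθx⟩ := (extSystem hE.2.2).inv_mem hφ₀
  have hP : E.IsCentric φ₀.range := isCentric_of_isConj hQ (isConj_of_mem (restrict_mem hψ₀.1 hQR))
  have hQmem : ∀ y, θ y ∈ Q := by
    rintro ⟨_, x, rfl⟩
    rw [hθx]
    exact x.2
  have haP : (T.subtype.comp a.toMonoidHom).comp (Subgroup.inclusion hP.1) ∈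
      (extSystem hE.2.2).Hom φ₀.range := by
    refine mem_of_comp hθ h hQmem _ ?_
    rintro ⟨_, x, rfl⟩
    rw [show (⟨θ ⟨φ₀ x, ⟨x, rfl⟩⟩, hQmem _⟩ : Q) = x from Subtype.ext (hθx x)]
    exact (hx (Subgroup.inclusion hQR x) (map_mem hψ₀Φ _)).symm
  suffices key : a ∈ (extSystem hE.2.2).autGroup T by
    exact mem_of_comp hψ₀Φ ((mem_autGroup_iff_hom le_rfl).1 key) (map_mem hψ₀Φ) ψ fun x =>
      hx x (map_mem hψ₀Φ x)
  obtain ⟨n, hn, i, k, hni, hik⟩ := exists_pow_coprime (p := p) a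
  have hc : a ^ i ∈ (extSystem hE.2.2).autGroup T :=
    pElement_mem_extSystem hS hE (isCentric_mono hP hP.1 le_rfl) (pow_mem ha i) ⟨k, hik⟩
  have hbP : (T.subtype.comp (a ^ n).toMonoidHom).comp (Subgroup.inclusion hP.1) ∈
      (extSystem hE.2.2).Hom φ₀.range := by
    refine mem_of_comp haP ((mem_autGroup_iff_hom le_rfl).1 hc) (fun x => Subtype.coe_prop _) _ fun x => ?_
    rw [hni]
    rfl
  have hb := mem_extSystem_of_coprime hS hE (pow_mem ha n) hn hP hbP
  rw [hni] at hb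
  have := mul_mem (inv_mem hc) hb
  rwa [inv_mul_cancel_left] at this

/-- The `p'`-residual of a weakly normal subsystem is normal. -/
theorem residual_isNormalIn [Finite S] [Fact p.Prime] (hS : IsPGroup p S) (hE : E.IsWeaklyNormalIn F p) :
    (pPrimeResidualSystem E p).IsNormalIn F p := by
  have hinv := hE.2.2
  have : Finite T := finite_sub hinv
  have hTC : T ⊔ centralizerIn S T ≤ S := sup_le_sub hinv le_rfl
  have : Finite ↥(T ⊔ centralizerIn S T) := finite_of_le hTC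
  refine ⟨⟨pPrimeResidualSystem_isSaturated (isPGroup_sub hinv hS) hE.1, hE.2.1,
    residual_isInvariantIn hS hE⟩, fun α hα => ?_⟩
  obtain ⟨hαE, hall⟩ := (mem_autGroup_iff_hom le_rfl).1 hα
  obtain ⟨-, hext⟩ := hall _ (isPPrimeGen_extSystem hS hE) (isCentricClosed_extSystem hS hE)
  have hTc : E.IsCentric T := ⟨le_rfl, fun Q hQ => by rw [isConj_top_eq hQ]; exact centralizerIn_le T T⟩
  obtain ⟨ψ, hψ, hψx, hψc⟩ := hext hTc
  have hψW : ∀ y, ψ y ∈ T ⊔ centralizerIn S T := fun y => by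
    have h1 := range_le_sup hTc hαE hψx hψc y
    rwa [range_subtype_comp] at h1
  obtain ⟨β, hβ, hβx⟩ := exists_aut hψ (range_eq_of_le (hom_inj hψ) hψW)
  refine ⟨β, hβ, fun x => (hβx _).trans (hψx x), fun c hc => ?_⟩
  rw [hβx]
  refine ⟨hψc c hc, Subgroup.mul_mem _ (Subgroup.inv_mem _ hc.2) ?_⟩
  exact map_mem_centralizer_of_commute (e := (α : T ≃* T)) le_sup_left hψx c.2 hc.2

end CfsgLib.FusionWeakNormal
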