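import Cfsg.Agent.Lib.FusionWeakNormal.Extension
import Mathlib.GroupTheory.OrderOfElement

/-!
# Climbing from a centric subgroup to the base of a weakly normal subsystem
-/

set_option autoImplicit false

namespace CfsgLib.FusionWeakNormal

open Cfsg Cfsg.FusionSystem CfsgLib.Fusion

variable {Ω : Type*} [Group Ω] {S T : Subgroup Ω} {F : Cfsg.FusionSystem S} {E : Cfsg.FusionSystem T}
variable {P Q : Subgroup Ω} {p : ℕ}

/-- An automorphism of `W` is trivial modulo `Q`. -/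
def TrivMod (Q : Subgroup Ω) {W : Subgroup Ω} (γ : MulAut W) : Prop := ∀ w : W, (w : Ω)⁻¹ * (γ w : Ω) ∈ Q

theorem TrivMod.preserves {W : Subgroup Ω} {γ : MulAut W} (h : TrivMod Q γ) {w : W} (hw : (w : Ω) ∈ Q) :
    (γ w : Ω) ∈ Q := by
  have := Q.mul_mem hw (h w)
  rwa [mul_inv_cancel_left] at this

/-- The automorphisms of `W` which fix `Q` pointwise and are trivial modulo `Q`. -/
def stabSeries (F : Cfsg.FusionSystem S) (Q W : Subgroup Ω) : Subgroup (MulAut W) where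
  carrier := {γ | γ ∈ F.autGroup W ∧ (∀ w : W, (w : Ω) ∈ Q → γ w = w) ∧ TrivMod Q γ}
  one_mem' := ⟨one_mem _, fun w _ => rfl, fun w => by simp⟩
  mul_mem' := by
    rintro γ δ ⟨hγ, hγQ, hγm⟩ ⟨hδ, hδQ, hδm⟩
    refine ⟨mul_mem hγ hδ, fun w hw => by rw [MulAut.mul_apply, hδQ w hw, hγQ w hw], fun w => ?_⟩
    have h1 := Q.mul_mem (hδm w) (hγm (δ w))
    rwa [MulAut.mul_apply, show (w : Ω)⁻¹ * (γ (δ w) : Ω) = (w : Ω)⁻¹ * (δ w : Ω) * ((δ w : Ω)⁻¹ * (γ (δ w) : Ω))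
      by group]
  inv_mem' := by
    rintro γ ⟨hγ, hγQ, hγm⟩
    refine ⟨inv_mem hγ, fun w hw => ?_, fun w => ?_⟩
    · conv_lhs => rw [← hγQ w hw, MulAut.inv_apply_self]
    · have h1 := Q.inv_mem (hγm (γ⁻¹ w))
      rw [MulAut.apply_inv_self] at h1
      simpa using h1

theorem isPGroup_stabSeries [Finite Q] [Fact p.Prime] (hQp : IsPGroup p Q) (W : Subgroup Ω) :
    IsPGroup p (stabSeries F Q W) := by
  obtain ⟨k, hk⟩ := IsPGroup.iff_card.1 hQp
  rintro ⟨γ, hγF, hγQ, hγm⟩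
  have hpow : ∀ (j : ℕ) (w : W), (γ ^ j) w = w * (w⁻¹ * γ w) ^ j := by
    intro j
    induction j with
    | zero => intro w; simp
    | succ j ih =>
      intro w
      rw [pow_succ', MulAut.mul_apply, ih, map_mul, map_pow, hγQ (w⁻¹ * γ w) (hγm w), pow_succ', ← mul_assoc,
        mul_inv_cancel_left]
  refine ⟨k, Subtype.ext (MulEquiv.ext fun w => ?_)⟩
  show (γ ^ p ^ k) w = w
  have h1 : ((⟨_, hγm w⟩ : Q)) ^ p ^ k = 1 := by rw [← hk]; exact pow_card_eq_one'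
  have h2 : (w⁻¹ * γ w : W) ^ p ^ k = 1 := Subtype.ext (by simpa using congrArg Subtype.val h1)
  rw [hpow, h2, mul_one]

/-- An automorphism of `Q C_S(T)` fixing `Q` and acting as `β` modulo `T`. -/
def Lifts (F : Cfsg.FusionSystem S) (T Q : Subgroup Ω) (β : MulAut ↥(T ⊔ centralizerIn S T)) : Prop :=
  ∃ v ∈ F.autGroup (Q ⊔ centralizerIn S T), (∀ w : ↥(Q ⊔ centralizerIn S T), (w : Ω) ∈ Q → v w = w) ∧
    ∀ (c : Ω) (hc : c ∈ centralizerIn S T),
      (β ⟨c, le_sup_right (a := T) hc⟩ : Ω)⁻¹ * (v ⟨c, le_sup_right (a := Q) hc⟩ : Ω) ∈ T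

theorem centralizerIn_apply_mem {β : MulAut ↥(T ⊔ centralizerIn S T)} (hβ : β ∈ F.autGroup (T ⊔ centralizerIn S T))
    (hTS : T ≤ S) (hβT : ∀ x : ↥(T ⊔ centralizerIn S T), (x : Ω) ∈ T → (β x : Ω) ∈ T) [Finite S] {c : Ω}
    (hc : c ∈ centralizerIn S T) : (β ⟨c, le_sup_right (a := T) hc⟩ : Ω) ∈ centralizerIn S T := by
  have hle : T ⊔ centralizerIn S T ≤ S := sup_le hTS (centralizerIn_le S T)
  have : Finite T := finite_of_le hTS
  refine ⟨hle (Subtype.coe_prop _), Subgroup.mem_centralizer_iff.2 fun y hy => ?_⟩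
  obtain ⟨x, hx⟩ : ∃ x : T, (β ⟨x, le_sup_left (b := centralizerIn S T) x.2⟩ : Ω) = y := by
    have hinj : Function.Injective fun x : T =>
        (⟨(β ⟨x, le_sup_left (b := centralizerIn S T) x.2⟩ : Ω), hβT _ x.2⟩ : T) := fun a b h => by
      have h0 : (β ⟨a, le_sup_left (b := centralizerIn S T) a.2⟩ : Ω) =
          β ⟨b, le_sup_left (b := centralizerIn S T) b.2⟩ := congrArg (fun t : T => (t : Ω)) h
      have h1 := β.injective (Subtype.ext h0)
      exact Subtype.ext (congrArg Subtype.val h1 :)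
    obtain ⟨x, hx⟩ := Finite.surjective_of_injective hinj ⟨y, hy⟩
    exact ⟨x, congrArg Subtype.val hx⟩
  rw [← hx, ← Subgroup.coe_mul, ← map_mul, ← Subgroup.coe_mul, ← map_mul]
  exact congrArg (fun z => ((β z : ↥(T ⊔ centralizerIn S T)) : Ω)) (Subtype.ext (commute_of_mem_base hc x.2))

/-- Lifts climb to the normalizer. -/
theorem Lifts.normalizer [Finite S] [Fact p.Prime] (hS : IsPGroup p S) (hE : E.IsWeaklyNormalIn F p)
    (hQ : E.IsCentric Q) {β : MulAut ↥(T ⊔ centralizerIn S T)} (hβ : β ∈ F.autGroup (T ⊔ centralizerIn S T))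
    (hβT : ∀ x : ↥(T ⊔ centralizerIn S T), (x : Ω) ∈ T → (β x : Ω) ∈ T) (hβord : (orderOf β).Coprime p)
    (h : Lifts F T Q β) : Lifts F T (normalizerIn T Q) β := by
  obtain ⟨hEs, hF, hinv⟩ := hE
  have hTS := hinv.2.1.1
  have hQS : Q ≤ S := hQ.1.trans hTS
  set X := normalizerIn T Q with hX
  set W := Q ⊔ centralizerIn S T with hW
  set R := X ⊔ centralizerIn S T with hR
  obtain ⟨v, hvF, hvQ, hvC⟩ : ∃ v ∈ F.autGroup W, (∀ w : W, (w : Ω) ∈ Q → v w = w) ∧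
      ∀ (c : Ω) (hc : c ∈ centralizerIn S T),
        (β ⟨c, le_sup_right (a := T) hc⟩ : Ω)⁻¹ * (v ⟨c, le_sup_right (a := Q) hc⟩ : Ω) ∈ T := h
  have hXT : X ≤ T := normalizerIn_le T Q
  have hQX : Q ≤ X := le_normalizerIn hQ.1
  have hWR : W ≤ R := sup_le_sup_right hQX _
  have hWS : W ≤ S := sup_le_sub hinv hQ.1
  have hRS : R ≤ S := sup_le_sub hinv hXT
  have : Finite W := finite_of_le hWS
  have : Finite R := finite_of_le hRS
  have : Finite Q := finite_of_le hQS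
  have hXN : ∀ x ∈ X, x ∈ Subgroup.normalizer (W : Set Ω) := fun x hx => by
    refine Subgroup.mem_normalizer_iff_map_conj_eq.2 ?_
    rw [hW, Subgroup.map_sup, Subgroup.mem_normalizer_iff_map_conj_eq.1 hx.2]
    congr 1
    refine Subgroup.mem_normalizer_iff_map_conj_eq.1 (Subgroup.mem_normalizer_iff.2 fun c => ?_)
    have hfix : ∀ c ∈ centralizerIn S T, x * c * x⁻¹ = c := fun c hc => by
      rw [commute_of_mem_base hc (hXT hx), mul_inv_cancel_right]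
    refine ⟨fun hc => (hfix c hc).symm ▸ hc, fun hc => ?_⟩
    have h1 : x⁻¹ * (x * c * x⁻¹) * x⁻¹⁻¹ = x * c * x⁻¹ := by
      rw [commute_of_mem_base hc (T.inv_mem (hXT hx)), mul_inv_cancel_right]
    rw [show c = x⁻¹ * (x * c * x⁻¹) * x⁻¹⁻¹ by group, h1]
    exact hc
  have hRN : R ≤ normalizerIn S W := sup_le (fun x hx => ⟨hTS (hXT hx), hXN x hx⟩)
    ((le_sup_right (a := Q)).trans (le_normalizerIn hWS))
  -- the `p`-group of conjugations
  set L := stabSeries F Q W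
  set M := autInducedBy X W with hM
  have hQc : centralizerIn T Q ≤ Q := hQ.2 Q (isConj_refl E hQ.1)
  have hMtriv : ∀ x (hx : x ∈ X), TrivMod Q (conjAut W x (hXN x hx)) := by
    intro x hx w
    rw [conjAut_apply]
    have hmem : w.1 ∈ ((Subgroup.closure {w : Ω | w ∈ W ∧ w⁻¹ * (x * w * x⁻¹) ∈ Q}) : Subgroup Ω) := by
      have h1 : W ≤ Subgroup.closure {w : Ω | w ∈ W ∧ w⁻¹ * (x * w * x⁻¹) ∈ Q} := by
        refine sup_le (fun q hq => Subgroup.subset_closure ⟨le_sup_left (b := centralizerIn S T) hq, ?_⟩)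
          fun c hc => Subgroup.subset_closure ⟨le_sup_right (a := Q) hc, ?_⟩
        · exact Q.mul_mem (Q.inv_mem hq) (conj_mem_of_mem_normalizer hx.2 hq)
        · rw [commute_of_mem_base hc (hXT hx), mul_inv_cancel_right, inv_mul_cancel]
          exact Q.one_mem
      exact h1 w.2
    have hQN : ∀ u ∈ W, ∀ q ∈ Q, u⁻¹ * q * u ∈ Q := by
      have h1 : W ≤ Subgroup.normalizer (Q : Set Ω) := sup_le Subgroup.le_normalizer fun c hc =>
        centralizer_le_normalizer Q (Subgroup.centralizer_le hQ.1 hc.2)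
      intro u hu q hq
      simpa using conj_mem_of_mem_normalizer (inv_mem (h1 hu)) hq
    refine (Subgroup.closure_induction (p := fun u _ => u ∈ W ∧ u⁻¹ * (x * u * x⁻¹) ∈ Q) (fun u hu => hu)
      ⟨W.one_mem, by simp⟩ ?_ ?_ hmem).2
    · rintro a b - - ⟨ha, ha'⟩ ⟨hb, hb'⟩
      refine ⟨W.mul_mem ha hb, ?_⟩
      rw [show (a * b)⁻¹ * (x * (a * b) * x⁻¹) = b⁻¹ * (a⁻¹ * (x * a * x⁻¹)) * b * (b⁻¹ * (x * b * x⁻¹)) by group]
      exact Q.mul_mem (hQN b hb _ ha') hb'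
    · rintro a - ⟨ha, ha'⟩
      refine ⟨W.inv_mem ha, ?_⟩
      rw [show a⁻¹⁻¹ * (x * a⁻¹ * x⁻¹) = a⁻¹⁻¹ * (a⁻¹ * (x * a * x⁻¹))⁻¹ * a⁻¹ by group]
      exact hQN a⁻¹ (W.inv_mem ha) _ (Q.inv_mem ha')
  have hMF : M ≤ F.autGroup W :=
    (autInducedBy_mono (hXT.trans hTS) W).trans (autInducedBy_le_autGroup F hWS)
  have hMsub : ∀ m ∈ M, TrivMod Q m := fun m hm => by
    obtain ⟨x, hxN, hx, rfl⟩ := exists_eq_conjAut hm
    exact hMtriv x hx
  have hMn : M ≤ Subgroup.normalizer (L : Set (MulAut W)) := by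
    have hone : ∀ m ∈ M, ∀ l ∈ L, m * l * m⁻¹ ∈ L := by
      rintro m hm l ⟨hl, hlQ, hlm⟩
      have hm' := hMsub m hm
      have hmi := hMsub m⁻¹ (M.inv_mem hm)
      refine ⟨mul_mem (mul_mem (hMF hm) hl) (inv_mem (hMF hm)), fun w hw => ?_, fun w => ?_⟩
      · rw [MulAut.mul_apply, MulAut.mul_apply, hlQ _ (hmi.preserves hw), MulAut.apply_inv_self]
      · have h1 := Q.mul_mem (Q.mul_mem (hmi w) (hlm (m⁻¹ w))) (hm' (l (m⁻¹ w)))
        simpa [MulAut.mul_apply, mul_assoc] using h1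
    intro m hm
    refine Subgroup.mem_normalizer_iff.2 fun l => ⟨hone m hm l, fun hl => ?_⟩
    have := hone m⁻¹ (M.inv_mem hm) _ hl
    simpa [mul_assoc] using this
  have hHp : IsPGroup p (L ⊔ M : Subgroup (MulAut W)) :=
    IsPGroup.to_sup_of_normal_left' (isPGroup_stabSeries (hS.to_le hQS) W)
      ((isPGroup_autInducedBy (hS.to_le (hXT.trans hTS)) W)) hMn
  have hHF : L ⊔ M ≤ F.autGroup W := sup_le (fun l hl => hl.1) hMF
  have hvM : ∀ m ∈ M, v * m * v⁻¹ ∈ L ⊔ M := by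
    intro m hm
    have hm' := hMsub m hm
    have hmi := hMsub m⁻¹ (M.inv_mem hm)
    have hvi : ∀ w : W, (w : Ω) ∈ Q → v⁻¹ w = w := fun w hw => by
      conv_lhs => rw [← hvQ w hw, MulAut.inv_apply_self]
    have hl : v * m * v⁻¹ * m⁻¹ ∈ L := by
      refine ⟨mul_mem (mul_mem (mul_mem hvF (hMF hm)) (inv_mem hvF)) (inv_mem (hMF hm)), fun w hw => ?_, fun w => ?_⟩
      · rw [MulAut.mul_apply, MulAut.mul_apply, MulAut.mul_apply, hvi _ (hmi.preserves hw), MulAut.apply_inv_self,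
          hvQ w hw]
      · set u := m⁻¹ w
        have h1 : ((v (m (v⁻¹ u)) : W) : Ω) = (u : Ω) * ((v⁻¹ u : W) : Ω)⁻¹ * (m (v⁻¹ u) : Ω) := by
          have h2 : v ((v⁻¹ u)⁻¹ * m (v⁻¹ u)) = (v⁻¹ u)⁻¹ * m (v⁻¹ u) := hvQ _ (hm' _)
          rw [map_mul, map_inv, MulAut.apply_inv_self, inv_mul_eq_iff_eq_mul] at h2
          rw [h2]
          simp [mul_assoc]
        rw [MulAut.mul_apply, MulAut.mul_apply, MulAut.mul_apply, h1]
        have h3 := Q.mul_mem (hmi w) (hm' (v⁻¹ u))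
        rw [show (u : Ω) = (m⁻¹ w : W) from rfl]
        simpa [mul_assoc] using h3
    have := (L ⊔ M).mul_mem (Subgroup.mem_sup_left hl) (Subgroup.mem_sup_right (S := L) hm)
    rwa [inv_mul_cancel_right] at this
  -- move `H` into the automizer of a fully normalized conjugate
  obtain ⟨W', hWW', hW'⟩ := exists_isFullyNormalized F hWS
  obtain ⟨e₀, he₀⟩ := exists_iso_of_isConj hWW'
  have : Finite W' := finite_of_le hW'.1
  have : Finite (MulAut W') := finite_mulAut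
  obtain ⟨-, TW, hTW⟩ := isFullyAutomized_of_isFullyNormalized hS hF hW'
  obtain ⟨γ, hγ⟩ := exists_conj_le_sylow TW
    (IsPGroup.map (hHp.of_equiv (Subgroup.subgroupOfEquivOfLe hHF).symm) he₀.autEquiv.toMonoidHom)
  let ω : W ≃* W' := e₀.trans ((γ : MulAut W') : W' ≃* W')
  have hω : IsFIso F ω := he₀.trans ((mem_autGroup_iff hW'.1).1 γ.2)
  have hHω : ∀ h ∈ L ⊔ M, MulAut.congr ω h ∈ autInducedBy S W' := by
    intro h hh
    have h1 := hγ (he₀.autEquiv ⟨h, hHF hh⟩) ⟨⟨h, hHF hh⟩, hh, rfl⟩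
    rw [hTW, Subgroup.mem_subgroupOf] at h1
    rw [show MulAut.congr ω h = (γ : MulAut W') * MulAut.congr e₀ h * (γ : MulAut W')⁻¹ from
      MulEquiv.ext fun x => rfl]
    exact h1
  have hrec := isReceptive_of_isFullyNormalized hS hF hW'
  have hviso : IsFIso F (v : W ≃* W) := (mem_autGroup_iff hWS).1 hvF
  -- every element of `R` acts as an element of `M` times a conjugation from `W`
  have hact : ∀ (ω' : W ≃* W'), IsFIso F ω' → (∀ m ∈ M, MulAut.congr ω' m ∈ autInducedBy S W') →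
      ∀ g (hg : g ∈ R), MulAut.congr ω' (conjAut W g (hRN hg).2) ∈ autInducedBy S W' := by
    intro ω' hω' hm g hg
    have hle : R ≤ extender S W (W'.subtype.comp ω'.toMonoidHom) := by
      refine sup_le (fun x hx => ?_) fun c hc => le_extender hWS (fun y => map_mem hω' y) (le_sup_right (a := Q) hc)
      exact (mem_extender_iff_congr ω' (fun _ => rfl) (hTS (hXT hx)) (hXN x hx)).2
        (hm _ (conjAut_mem_autInducedBy hx (hXN x hx)))
    exact (mem_extender_iff_congr ω' (fun _ => rfl) (hRN hg).1 (hRN hg).2).1 (hle hg)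
  obtain ⟨θ₂, hθ₂, -, hθ₂x⟩ := hω.exists_extension hrec hWR hRN
    (hact ω hω fun m hm => hHω m (Subgroup.mem_sup_right hm))
  obtain ⟨θ₁, hθ₁, -, hθ₁x⟩ := (hviso.trans hω).exists_extension hrec hWR hRN
    (hact _ (hviso.trans hω) fun m hm => by
      rw [show MulAut.congr ((v : W ≃* W).trans ω) m = MulAut.congr ω (v * m * v⁻¹) from MulEquiv.ext fun x => rfl]
      exact hHω _ (hvM m hm))
  -- the image of `Q`
  set q' := (Q.subgroupOf R).map θ₂ with hq'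
  have hq'c : E.IsCentric q' :=
    isCentric_of_fConj hinv hQ ⟨_, restrict_mem hθ₂ (hQX.trans le_sup_left), range_comp_inclusion _⟩
  have hzmem : ∀ (x : Ω) (hx : x ∈ X), (θ₂ ⟨x, le_sup_left (b := centralizerIn S T) hx⟩)⁻¹ *
      θ₁ ⟨x, le_sup_left (b := centralizerIn S T) hx⟩ ∈ q' := by
    intro x hx
    refine hq'c.2 q' (isConj_refl E hq'c.1) ⟨T.mul_mem (T.inv_mem (map_mem_closed hinv hθ₂ _ (hXT hx)))
      (map_mem_closed hinv hθ₁ _ (hXT hx)), Subgroup.mem_centralizer_iff.2 ?_⟩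
    rintro _ ⟨⟨q, hqR⟩, hq, rfl⟩
    set xx : R := ⟨x, le_sup_left (b := centralizerIn S T) hx⟩
    have hqQ : q ∈ Q := hq
    have hag : ∀ r : R, (r : Ω) ∈ Q → θ₁ r = θ₂ r := by
      rintro ⟨r, hrR⟩ hr
      have hrW : r ∈ W := le_sup_left (b := centralizerIn S T) hr
      have h1 := hθ₁x ⟨r, hrW⟩
      have h2 := hθ₂x ⟨r, hrW⟩
      rw [h1, h2]
      show (ω (v ⟨r, hrW⟩) : Ω) = ω ⟨r, hrW⟩
      rw [hvQ ⟨r, hrW⟩ hr]
    have h1 := hag (xx * ⟨q, hqR⟩ * xx⁻¹) (conj_mem_of_mem_normalizer hx.2 hqQ)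
    rw [map_mul, map_mul, map_inv, map_mul, map_mul, map_inv, hag ⟨q, hqR⟩ hqQ] at h1
    calc θ₂ ⟨q, hqR⟩ * ((θ₂ xx)⁻¹ * θ₁ xx)
        = (θ₂ xx)⁻¹ * (θ₂ xx * θ₂ ⟨q, hqR⟩ * (θ₂ xx)⁻¹) * θ₁ xx := by group
      _ = (θ₂ xx)⁻¹ * (θ₁ xx * θ₂ ⟨q, hqR⟩ * (θ₁ xx)⁻¹) * θ₁ xx := by rw [h1]
      _ = _ := by group
  have hWrange : ∀ y : W', (y : Ω) ∈ θ₂.range := fun y =>
    ⟨_, (hθ₂x (ω.symm y)).trans (by rw [MulEquiv.apply_symm_apply])⟩
  have hrange : ∀ r, θ₁ r ∈ θ₂.range := by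
    have h : R ≤ (θ₂.range.comap θ₁).map R.subtype := by
      refine sup_le (fun x hx => ⟨⟨x, le_sup_left (b := centralizerIn S T) hx⟩, ?_, rfl⟩) fun c hc =>
        ⟨⟨c, le_sup_right (a := X) hc⟩, ?_, rfl⟩
      · show θ₁ _ ∈ θ₂.range
        obtain ⟨q, -, hqe⟩ := hzmem x hx
        refine ⟨⟨x, le_sup_left (b := centralizerIn S T) hx⟩ * q, ?_⟩
        rw [map_mul, hqe, mul_inv_cancel_left]
      · show θ₁ _ ∈ θ₂.range
        rw [show θ₁ ⟨c, _⟩ = _ from hθ₁x ⟨c, le_sup_right (a := Q) hc⟩]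
        exact hWrange _
    intro r
    obtain ⟨r', hr', e'⟩ := h r.2
    rwa [show r' = r from Subtype.ext e'] at hr'
  obtain ⟨η, hη, hηx⟩ := F.inv_mem hθ₂
  have hcompF : η.comp (θ₁.codRestrict θ₂.range hrange) ∈ F.Hom R := F.comp_mem hθ₁ hη hrange
  have hcx : ∀ r r' : R, θ₁ r = θ₂ r' → η.comp (θ₁.codRestrict θ₂.range hrange) r = (r' : Ω) := by
    intro r r' h
    show η ⟨θ₁ r, hrange r⟩ = _
    exact (congrArg η (Subtype.ext h)).trans (hηx r')
  have hcR : ∀ r, η.comp (θ₁.codRestrict θ₂.range hrange) r ∈ R := fun r => by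
    obtain ⟨r', hr'⟩ := hrange r
    rw [hcx r r' hr'.symm]
    exact r'.2
  obtain ⟨v', hv'F, hv'x⟩ := exists_aut hcompF (range_eq_of_le (hom_inj hcompF) hcR)
  have hv'W : ∀ w : W, (v' ⟨w, hWR w.2⟩ : Ω) = v w := fun w => by
    rw [hv'x]
    exact hcx _ ⟨(v w : Ω), hWR (v w).2⟩ ((hθ₁x w).trans (hθ₂x (v w)).symm)
  have hv'Q : ∀ r : R, (r : Ω) ∈ Q → v' r = r := fun r hr => Subtype.ext (by
    have h1 := hv'W ⟨r, le_sup_left (b := centralizerIn S T) hr⟩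
    rw [hvQ ⟨r, le_sup_left (b := centralizerIn S T) hr⟩ hr] at h1
    exact h1)
  have hv'X : ∀ x : R, (x : Ω) ∈ X → (x : Ω)⁻¹ * (v' x : Ω) ∈ Q := fun x hx => by
    obtain ⟨q, hq, hqe⟩ := hzmem x hx
    have h1 := hcx x (x * q) (by rw [map_mul, hqe, mul_inv_cancel_left])
    rw [hv'x, h1, Subgroup.coe_mul, inv_mul_cancel_left]
    exact hq
  -- a power fixes `X` pointwise
  obtain ⟨k, hk⟩ := IsPGroup.iff_card.1 (hS.to_le hQS)
  have hpow : ∀ (i : ℕ) (x : R), (x : Ω) ∈ X → (v' ^ i) x = x * (x⁻¹ * v' x) ^ i := by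
    intro i
    induction i with
    | zero => intro x _; simp
    | succ i ih =>
      intro x hx
      rw [pow_succ', MulAut.mul_apply, ih x hx, map_mul, map_pow, hv'Q (x⁻¹ * v' x) (hv'X x hx), pow_succ',
        ← mul_assoc, mul_inv_cancel_left]
  have hfixX : ∀ x : R, (x : Ω) ∈ X → (v' ^ p ^ k) x = x := fun x hx => by
    have h1 : (⟨_, hv'X x hx⟩ : Q) ^ p ^ k = 1 := by rw [← hk]; exact pow_card_eq_one'
    have h2 : (x⁻¹ * v' x : R) ^ p ^ k = 1 := Subtype.ext (by simpa using congrArg Subtype.val h1)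
    rw [hpow _ x hx, h2, mul_one]
  obtain ⟨i, hi⟩ := exists_pow_eq_self_of_coprime (x := β) (n := p ^ k) (Nat.Coprime.pow_left k hβord.symm)
  refine ⟨(v' ^ p ^ k) ^ i, pow_mem (pow_mem hv'F _) _, fun x hx => ?_, fun c hc => ?_⟩
  · clear hi
    induction i with
    | zero => rfl
    | succ i ih => rw [pow_succ, MulAut.mul_apply, hfixX x hx, ih]
  · rw [← pow_mul] at hi ⊢
    have hall : ∀ n : ℕ, ((β ^ n) ⟨c, le_sup_right (a := T) hc⟩ : Ω)⁻¹ *
        ((v' ^ n) ⟨c, le_sup_right (a := X) hc⟩ : Ω) ∈ T ∧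
        ((β ^ n) ⟨c, le_sup_right (a := T) hc⟩ : Ω) ∈ centralizerIn S T := by
      intro n
      induction n with
      | zero => exact ⟨by simp, hc⟩
      | succ n ih =>
        obtain ⟨ih1, ih2⟩ := ih
        rw [pow_succ', pow_succ', MulAut.mul_apply, MulAut.mul_apply]
        have hcn := centralizerIn_apply_mem hβ hTS hβT ih2
        refine ⟨?_, hcn⟩
        set d : Ω := ((β ^ n) ⟨c, le_sup_right (a := T) hc⟩ : Ω)
        set y : R := (v' ^ n) ⟨c, le_sup_right (a := X) hc⟩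
        have hy : y = ⟨d, le_sup_right (a := X) ih2⟩ * ⟨d⁻¹ * (y : Ω),
            R.mul_mem (R.inv_mem (le_sup_right (a := X) ih2)) y.2⟩ := Subtype.ext (mul_inv_cancel_left d _).symm
        rw [hy, map_mul, Subgroup.coe_mul, ← mul_assoc]
        refine T.mul_mem ?_ (map_mem_closed hinv ((mem_autGroup_iff_hom hRS).1 hv'F) _ ih1)
        rw [hv'W ⟨d, le_sup_right (a := Q) ih2⟩]
        have hd : (β ^ n) ⟨c, le_sup_right (a := T) hc⟩ = ⟨d, le_sup_right (a := T) ih2⟩ := Subtype.ext rfl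
        rw [hd]
        exact hvC d ih2
    have h1 := (hall (p ^ k * i)).1
    rwa [hi] at h1

/-- Lifts climb to the base. -/
theorem Lifts.base [Finite S] [Fact p.Prime] (hS : IsPGroup p S) (hE : E.IsWeaklyNormalIn F p)
    (hQ : E.IsCentric Q) {β : MulAut ↥(T ⊔ centralizerIn S T)} (hβ : β ∈ F.autGroup (T ⊔ centralizerIn S T))
    (hβT : ∀ x : ↥(T ⊔ centralizerIn S T), (x : Ω) ∈ T → (β x : Ω) ∈ T) (hβord : (orderOf β).Coprime p)
    (h : Lifts F T Q β) : Lifts F T T β := by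
  have : Finite T := finite_sub hE.2.2
  induction hn : Nat.card T - Nat.card Q using Nat.strong_induction_on generalizing Q with
  | _ n ih =>
    rcases hQ.1.eq_or_lt with rfl | hlt
    · exact h
    have hN := lt_normalizerIn (isPGroup_sub hE.2.2 hS) hlt
    refine ih _ ?_ (isCentric_mono hQ hN.le (normalizerIn_le T Q)) (h.normalizer hS hE hQ hβ hβT hβord) rfl
    have h1 := Descent.card_lt_card_of_lt (normalizerIn_le T Q) hN
    have h2 := Descent.card_le_of_le (normalizerIn_le T Q)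
    omega

end CfsgLib.FusionWeakNormal
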