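import Cfsg.Agent.Lib.Fusion.PPrimeResidual
import Cfsg.Agent.Lib.Fusion.Normal
import Cfsg.Agent.Lib.FusionQuot.GroupCriterion

/-!
# Transport of the centric subgroups and of the `p'`-residual of an invariant subsystem
-/

set_option autoImplicit false

namespace CfsgLib.FusionWeakNormal

open Cfsg Cfsg.FusionSystem CfsgLib.Fusion

variable {Ω : Type*} [Group Ω] {S T : Subgroup Ω} {F : Cfsg.FusionSystem S} {E : Cfsg.FusionSystem T}
variable {P Q : Subgroup Ω} {p : ℕ}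

theorem le_top_of_invariant (hinv : E.IsInvariantIn F) : T ≤ S := hinv.2.1.1

theorem map_mem_closed (hinv : E.IsInvariantIn F) {φ : P →* Ω} (hφ : φ ∈ F.Hom P) (x : P) (hx : (x : Ω) ∈ T) :
    φ x ∈ T :=
  hinv.2.1.2 (P ⊓ T) inf_le_right _ (restrict_mem hφ inf_le_left) ⟨x, x.2, hx⟩

theorem isPGroup_sub (hinv : E.IsInvariantIn F) (hS : IsPGroup p S) : IsPGroup p T := hS.to_le hinv.2.1.1

theorem finite_sub [Finite S] (hinv : E.IsInvariantIn F) : Finite T := finite_of_le hinv.2.1.1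

theorem isFullyNormalized_base [Finite S] (hinv : E.IsInvariantIn F) : F.IsFullyNormalized T := by
  have : Finite T := finite_sub hinv
  refine ⟨hinv.2.1.1, fun Q hQ => ?_⟩
  obtain ⟨φ, hφ, rfl⟩ := hQ
  rw [range_eq_of_le (hom_inj hφ) fun x => map_mem_closed hinv hφ x x.2]

/-- `Aut_F(T)` restricts to isomorphisms of `F`. -/
theorem exists_autIso (hinv : E.IsInvariantIn F) {a : MulAut T} (ha : a ∈ F.autGroup T) (hP : P ≤ T) :
    ∃ e : P ≃* autImg a P, IsFIso F e ∧ ∀ x : P, (e x : Ω) = ((a ⟨x, hP x.2⟩ : T) : Ω) := by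
  obtain ⟨e, he, hx⟩ := exists_iso (Q := autImg a P)
    (restrict_mem ((mem_autGroup_iff_hom hinv.2.1.1).1 ha) hP) (range_comp_inclusion hP)
  exact ⟨e, he, hx⟩

theorem isConj_le_base (hinv : E.IsInvariantIn F) (hP : P ≤ T) (h : F.IsConj P Q) : Q ≤ T := by
  obtain ⟨φ, hφ, rfl⟩ := h
  rintro _ ⟨x, rfl⟩
  exact map_mem_closed hinv hφ x (hP x.2)

/-- Centric subgroups of an invariant subsystem are permuted by the big system. -/
theorem isCentric_of_fConj (hinv : E.IsInvariantIn F) (hP : E.IsCentric P) (h : F.IsConj P Q) :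
    E.IsCentric Q := by
  refine ⟨isConj_le_base hinv hP.1 h, fun R hR c hc => ?_⟩
  obtain ⟨φ, hφ, rfl⟩ := isConj_trans h (CfsgLib.FusionQuot.isConj_of_subsystem hinv.1 hR)
  obtain ⟨a, ha, φ₀, hφ₀, hx⟩ := hinv.2.2.2 P hP.1 φ hφ
  have hc' : ((a⁻¹ : MulAut T) ⟨c, hc.1⟩ : Ω) ∈ centralizerIn T φ₀.range := by
    refine ⟨((a⁻¹ : MulAut T) ⟨c, hc.1⟩).2, Subgroup.mem_centralizer_iff.2 ?_⟩
    rintro _ ⟨x, rfl⟩
    have h1 := Subgroup.mem_centralizer_iff.1 hc.2 (φ x) ⟨x, rfl⟩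
    rw [hx x (map_mem hφ₀ x)] at h1
    have h2 : a ⟨φ₀ x, map_mem hφ₀ x⟩ * ⟨c, hc.1⟩ = ⟨c, hc.1⟩ * a ⟨φ₀ x, map_mem hφ₀ x⟩ :=
      Subtype.ext h1
    have h3 := congrArg (a⁻¹ : MulAut T) h2
    rw [map_mul, map_mul, MulAut.inv_apply_self] at h3
    exact congrArg Subtype.val h3
  obtain ⟨x, hx'⟩ := hP.2 _ (isConj_of_mem hφ₀) hc'
  refine ⟨x, (hx x (map_mem hφ₀ x)).trans ?_⟩
  rw [show (⟨φ₀ x, map_mem hφ₀ x⟩ : T) = (a⁻¹ : MulAut T) ⟨c, hc.1⟩ from Subtype.ext hx',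
    MulAut.apply_inv_self]

/-- `O^{p'}` of the automizers of an invariant subsystem is transported by the big system. -/
theorem congr_mem_oPAut (hinv : E.IsInvariantIn F) (hP : P ≤ T) (hQ : Q ≤ T) {e : P ≃* Q} (he : IsFIso F e)
    {α : MulAut P} (hα : α ∈ oPAut E p P) : MulAut.congr e α ∈ oPAut E p Q := by
  have h : oPAut E p P ≤ (oPAut E p Q).comap (MulAut.congr e).toMonoidHom :=
    oPAut_le_of_forall fun β hβ ⟨k, hk⟩ => Subgroup.mem_comap.2
      (mem_oPAut (CfsgLib.FusionQuot.congr_mem_autGroup_of_invariant hinv hP hQ he hβ)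
        (by rw [← hk]; exact (MulAut.congr e).orderOf_eq β))
  exact h hα

theorem isPPrimeGen_twist (hinv : E.IsInvariantIn F) {E' : Cfsg.FusionSystem T} (hE : IsPPrimeGen E p E')
    {a : MulAut T} (ha : a ∈ F.autGroup T) : IsPPrimeGen E p (twistSystem E' a) := by
  intro P hP α hα
  obtain ⟨e, he, hex⟩ := exists_autIso hinv ha hP.1
  have h1 := hE _ (isCentric_of_fConj hinv hP he.isConj) (congr_mem_oPAut hinv hP.1 (autImg_le a P) he hα)
  refine (mem_autGroup_iff_hom hP.1).2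
    ⟨hP.1, P.subtype_injective.comp α.injective, fun x => hP.1 (α x).2, _,
      (mem_autGroup_iff_hom (autImg_le a P)).1 h1, fun x hx hax => ?_⟩
  show ((MulAut.congr e α ⟨_, hax⟩ : autImg a P) : Ω) = _
  rw [show (⟨_, hax⟩ : autImg a P) = e x from Subtype.ext (hex x).symm, congr_apply,
    MulEquiv.symm_apply_apply, hex]
  rfl

theorem isCentricClosed_twist (hinv : E.IsInvariantIn F) {E' : Cfsg.FusionSystem T}
    (hE : IsCentricClosed E E') {a : MulAut T} (ha : a ∈ F.autGroup T) :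
    IsCentricClosed E (twistSystem E' a) := by
  rintro Q R hQR ψ hψ hQ ⟨-, -, hres, χ, hχ, hχx⟩
  have hRT := dom_le hψ
  obtain ⟨χR, hχR, hkey⟩ := autInvariant_conj hinv.2.2.1 hψ ha
  obtain ⟨eQ, heQ, -⟩ := exists_autIso hinv ha (hQR.trans hRT)
  have hle : autImg a Q ≤ autImg a R := Subgroup.map_mono fun x hx => hQR hx
  refine ⟨hRT, hom_inj hψ, map_mem hψ, _, hE _ _ hle _ hχR (isCentric_of_fConj hinv hQ heQ.isConj)
    (mem_of_restrict hχ le_rfl _ ?_), fun x hx hax => hkey x hax⟩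
  rintro ⟨y, hy⟩
  obtain ⟨s, hs, rfl⟩ := mem_autImg.1 hy
  exact (hkey ⟨s, hQR hs⟩ (hle hy)).trans (hχx ⟨s, hs⟩ s.2 hy).symm

theorem residual_autInvariant (hinv : E.IsInvariantIn F) :
    IsAutInvariant (pPrimeResidualSystem E p) F := by
  intro P hPT φ hφ a ha
  obtain ⟨χ, hχ, hkey⟩ := autInvariant_conj hinv.2.2.1 hφ.1 ha
  refine ⟨χ, ⟨hχ, fun E' hE hE' => ?_⟩, fun x hφx hax => hkey x hax⟩
  obtain ⟨-, -, hφT, χ', hχ', hχx⟩ :=
    hφ.2 _ (isPPrimeGen_twist hinv hE ha) (isCentricClosed_twist hinv hE' ha)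
  refine mem_of_restrict hχ' le_rfl _ ?_
  rintro ⟨y, hy⟩
  obtain ⟨s, hs, rfl⟩ := mem_autImg.1 hy
  exact (hkey ⟨s, hs⟩ hy).trans (hχx ⟨s, hs⟩ s.2 hy).symm

theorem residual_isInvariantIn [Finite S] [Fact p.Prime] (hS : IsPGroup p S)
    (hE : E.IsWeaklyNormalIn F p) : (pPrimeResidualSystem E p).IsInvariantIn F := by
  obtain ⟨hEs, -, hinv⟩ := hE
  have : Finite T := finite_sub hinv
  have hT := isPGroup_sub hinv hS
  refine ⟨fun P φ h => hinv.1 P h.1, hinv.2.1, residual_autInvariant hinv, fun P hP φ hφ => ?_⟩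
  obtain ⟨α, hα, φ₀, hφ₀, hx⟩ := hinv.2.2.2 P hP φ hφ
  obtain ⟨β, hβ, φ₁, hφ₁, hx'⟩ := pPrimeResidualSystem_factors hT hEs P φ₀ hφ₀
  refine ⟨α * β, (F.autGroup T).mul_mem hα (CfsgLib.FusionQuot.autGroup_le_of_subsystem hinv.1 T hβ),
    φ₁, hφ₁, fun x hx₁ => ?_⟩
  rw [hx x (map_mem hφ₀ x), MulAut.mul_apply]
  exact congrArg (fun t : T => ((α t : T) : Ω)) (Subtype.ext (hx' x hx₁))

/-- A `p'`-residual is the constructed one. -/
theorem eq_residual [Finite S] [Fact p.Prime] (hS : IsPGroup p S) (hF : F.IsSaturated p)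
    {D : Cfsg.FusionSystem S} (hD : F.IsPPrimeResidual p D) : D = pPrimeResidualSystem F p := by
  obtain ⟨h1, h2, h3⟩ := pPrimeResidualSystem_isPPrimeResidual hS hF
  exact fusionSystem_ext fun P => Set.Subset.antisymm (hD.2.2 _ h1 h2 P) (h3 _ hD.1 hD.2.1 P)

end CfsgLib.FusionWeakNormal
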