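import Cfsg.Agent.Lib.FusionWeakNormal.Basic

/-!
# The subsystem of maps with an extension trivial on `C_S(T)` modulo `T`
-/

set_option autoImplicit false

namespace CfsgLib.FusionWeakNormal

open Cfsg Cfsg.FusionSystem CfsgLib.Fusion

variable {Ω : Type*} [Group Ω] {S T : Subgroup Ω} {F : Cfsg.FusionSystem S} {E : Cfsg.FusionSystem T}
variable {P Q : Subgroup Ω} {p : ℕ}

/-- `φ` extends to a map on `P C_S(T)` which is trivial on `C_S(T)` modulo `T`. -/
def HasTrivialExt (F : Cfsg.FusionSystem S) (T : Subgroup Ω) {P : Subgroup Ω} (φ : P →* Ω) : Prop :=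
  ∃ ψ ∈ F.Hom (P ⊔ centralizerIn S T), (∀ x : P, ψ (Subgroup.inclusion le_sup_left x) = φ x) ∧
    ∀ c : ↥(P ⊔ centralizerIn S T), (c : Ω) ∈ centralizerIn S T → (c : Ω)⁻¹ * ψ c ∈ T

theorem commute_of_mem_base {c x : Ω} (hc : c ∈ centralizerIn S T) (hx : x ∈ T) : x * c = c * x :=
  Subgroup.mem_centralizer_iff.1 hc.2 x hx

theorem sup_le_sub (hinv : E.IsInvariantIn F) (hP : P ≤ T) : P ⊔ centralizerIn S T ≤ S :=
  sup_le (hP.trans hinv.2.1.1) (centralizerIn_le S T)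

theorem conj_mem_centralizerIn {g c : Ω} (hg : g ∈ normalizerIn S P) (hc : c ∈ centralizerIn S P) :
    g * c * g⁻¹ ∈ centralizerIn S P := by
  refine ⟨S.mul_mem (S.mul_mem hg.1 hc.1) (S.inv_mem hg.1), Subgroup.mem_centralizer_iff.2 fun y hy => ?_⟩
  have hy' : g⁻¹ * y * g ∈ P := by
    simpa using conj_mem_of_mem_normalizer (inv_mem hg.2) hy
  have := Subgroup.mem_centralizer_iff.1 hc.2 _ hy'
  calc y * (g * c * g⁻¹) = g * ((g⁻¹ * y * g) * c) * g⁻¹ := by group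
    _ = g * (c * (g⁻¹ * y * g)) * g⁻¹ := by rw [this]
    _ = _ := by group

/-- On a centric subgroup the displacement lies in the image. -/
theorem disp_mem_range (hP : E.IsCentric P) {φ : P →* Ω} (hφ : φ ∈ E.Hom P)
    {ψ : ↥(P ⊔ centralizerIn S T) →* Ω} (hx : ∀ x : P, ψ (Subgroup.inclusion le_sup_left x) = φ x)
    {c : ↥(P ⊔ centralizerIn S T)} (hc : (c : Ω) ∈ centralizerIn S T) (hz : (c : Ω)⁻¹ * ψ c ∈ T) :
    (c : Ω)⁻¹ * ψ c ∈ φ.range := by
  refine hP.2 _ (isConj_of_mem hφ) ⟨hz, Subgroup.mem_centralizer_iff.2 ?_⟩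
  rintro _ ⟨x, rfl⟩
  have h1 : Commute (φ x) (c : Ω) := commute_of_mem_base hc (map_mem hφ x)
  have h2 : Commute (φ x) (ψ c) := by
    have h3 : (Subgroup.inclusion le_sup_left x : ↥(P ⊔ centralizerIn S T)) * c =
        c * Subgroup.inclusion le_sup_left x := Subtype.ext (commute_of_mem_base hc (dom_le hφ x.2))
    have h4 := congrArg ψ h3
    rw [map_mul, map_mul, hx] at h4
    exact h4
  exact h1.inv_right.mul_right h2

theorem range_le_sup (hP : E.IsCentric P) {φ : P →* Ω} (hφ : φ ∈ E.Hom P)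
    {ψ : ↥(P ⊔ centralizerIn S T) →* Ω} (hx : ∀ x : P, ψ (Subgroup.inclusion le_sup_left x) = φ x)
    (hc : ∀ c : ↥(P ⊔ centralizerIn S T), (c : Ω) ∈ centralizerIn S T → (c : Ω)⁻¹ * ψ c ∈ T)
    (y : ↥(P ⊔ centralizerIn S T)) : ψ y ∈ φ.range ⊔ centralizerIn S T := by
  have h : P ⊔ centralizerIn S T ≤ ((φ.range ⊔ centralizerIn S T).comap ψ).map
      (P ⊔ centralizerIn S T).subtype := by
    refine sup_le (fun x hxP => ⟨Subgroup.inclusion le_sup_left ⟨x, hxP⟩, ?_, rfl⟩) fun c hcC =>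
      ⟨⟨c, le_sup_right (a := P) hcC⟩, ?_, rfl⟩
    · show ψ _ ∈ φ.range ⊔ centralizerIn S T
      rw [hx]
      exact le_sup_left (b := centralizerIn S T) ⟨_, rfl⟩
    · show ψ _ ∈ φ.range ⊔ centralizerIn S T
      have h1 := disp_mem_range hP hφ hx (c := ⟨c, le_sup_right (a := P) hcC⟩) hcC (hc _ hcC)
      have h2 := Subgroup.mul_mem _ (le_sup_right (a := φ.range) hcC) (le_sup_left (b := centralizerIn S T) h1)
      rwa [mul_inv_cancel_left] at h2
  obtain ⟨y', hy', e⟩ := h y.2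
  rwa [show y' = y from Subtype.ext e] at hy'

/-- The maps of `E` whose restrictions to centric subgroups have trivial extensions. -/
def extSystem (hinv : E.IsInvariantIn F) : Cfsg.FusionSystem T where
  Hom P := {φ | φ ∈ E.Hom P ∧ (E.IsCentric P → HasTrivialExt F T φ)}
  le_of_mem h := E.le_of_mem h.1
  injective_of_mem h := E.injective_of_mem h.1
  conj_mem := by
    intro P g hP hg
    refine ⟨E.conj_mem hP hg, fun _ => ⟨_, F.conj_mem (sup_le_sub hinv hP) (hinv.2.1.1 hg), fun _ => rfl,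
      fun c hc => ?_⟩⟩
    rw [conjHom_apply, commute_of_mem_base hc hg, mul_inv_cancel_right, inv_mul_cancel]
    exact T.one_mem
  comp_mem := by
    intro P Q φ χ hφ hχ hQ
    refine ⟨E.comp_mem hφ.1 hχ.1 hQ, fun hP => ?_⟩
    obtain ⟨ψ, hψ, hx, hc⟩ := hφ.2 hP
    have hrle : φ.range ≤ Q := by rintro _ ⟨x, rfl⟩; exact hQ x
    have hQc : E.IsCentric Q :=
      isCentric_mono (isCentric_of_isConj hP (isConj_of_mem hφ.1)) hrle (dom_le hχ.1)
    obtain ⟨η, hη, hηx, hηc⟩ := hχ.2 hQc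
    have hle : ∀ y, ψ y ∈ Q ⊔ centralizerIn S T := fun y =>
      sup_le_sup_right hrle _ (range_le_sup hP hφ.1 hx hc y)
    refine ⟨_, F.comp_mem hψ hη hle, fun x => ?_, fun c hcC => ?_⟩
    · show η ⟨ψ (Subgroup.inclusion le_sup_left x), hle _⟩ = χ ⟨φ x, hQ x⟩
      rw [← hηx]
      exact congrArg η (Subtype.ext (hx x))
    · show (c : Ω)⁻¹ * η ⟨ψ c, hle c⟩ ∈ T
      obtain ⟨z, hz⟩ := disp_mem_range hP hφ.1 hx hcC (hc c hcC)
      have h1 : (⟨ψ c, hle c⟩ : ↥(Q ⊔ centralizerIn S T)) =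
          ⟨(c : Ω), le_sup_right (a := Q) hcC⟩ * Subgroup.inclusion le_sup_left ⟨φ z, hQ z⟩ :=
        Subtype.ext (by show ψ c = (c : Ω) * φ z; rw [hz, mul_inv_cancel_left])
      rw [h1, map_mul, hηx, ← mul_assoc]
      exact T.mul_mem (hηc ⟨(c : Ω), le_sup_right (a := Q) hcC⟩ hcC) (map_mem hχ.1 _)
  inv_mem := by
    intro P φ hφ
    obtain ⟨θ, hθ, hθx⟩ := E.inv_mem hφ.1
    refine ⟨θ, ⟨hθ, fun hR => ?_⟩, hθx⟩
    have hP : E.IsCentric P := isCentric_of_isConj hR (isConj_symm (isConj_of_mem hφ.1))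
    obtain ⟨ψ, hψ, hx, hc⟩ := hφ.2 hP
    obtain ⟨η, hη, hηx⟩ := F.inv_mem hψ
    have hC : ∀ d : Ω, ∀ hd : d ∈ centralizerIn S T, ∃ x : P,
        ψ (⟨d, le_sup_right (a := P) hd⟩ * (Subgroup.inclusion le_sup_left x)⁻¹) = d := by
      intro d hd
      obtain ⟨x, hx'⟩ := disp_mem_range hP hφ.1 hx (c := ⟨d, le_sup_right (a := P) hd⟩) hd (hc _ hd)
      refine ⟨x, ?_⟩
      rw [map_mul, map_inv, hx, hx', _root_.mul_inv_rev, inv_inv, mul_inv_cancel_left]
    have hle : φ.range ⊔ centralizerIn S T ≤ ψ.range := by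
      refine sup_le ?_ fun d hd => ?_
      · rintro _ ⟨x, rfl⟩
        exact ⟨_, hx x⟩
      · obtain ⟨x, hx'⟩ := hC d hd
        exact ⟨_, hx'⟩
    refine ⟨_, restrict_mem hη hle, ?_, fun d hd => ?_⟩
    · rintro ⟨_, x, rfl⟩
      show η ⟨φ x, _⟩ = θ ⟨φ x, _⟩
      rw [hθx]
      exact (congrArg η (Subtype.ext (hx x).symm)).trans (hηx (Subgroup.inclusion le_sup_left x))
    · show (d : Ω)⁻¹ * η ⟨(d : Ω), hle d.2⟩ ∈ T
      obtain ⟨x, hx'⟩ := hC d hd
      rw [show (⟨(d : Ω), hle d.2⟩ : ψ.range) =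
        ⟨ψ (⟨(d : Ω), le_sup_right (a := P) hd⟩ * (Subgroup.inclusion le_sup_left x)⁻¹), ⟨_, rfl⟩⟩ from
        Subtype.ext hx'.symm, hηx]
      show (d : Ω)⁻¹ * ((d : Ω) * (x : Ω)⁻¹) ∈ T
      rw [inv_mul_cancel_left]
      exact T.inv_mem (dom_le hφ.1 x.2)

theorem extSystem_subsystem (hinv : E.IsInvariantIn F) : (extSystem hinv).IsSubsystemOf E := fun _ _ h => h.1

/-- Transported by a map, an element commuting with a subgroup commutes with its image. -/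
theorem map_mem_centralizer_of_commute {R : Subgroup Ω} {ψ : R →* Ω} (hPR : P ≤ R) {e : P ≃* Q}
    (hx : ∀ x : P, ψ ⟨x, hPR x.2⟩ = (e x : Ω)) {u : Ω} (hu : u ∈ R)
    (hcomm : u ∈ Subgroup.centralizer (P : Set Ω)) : ψ ⟨u, hu⟩ ∈ Subgroup.centralizer (Q : Set Ω) :=
  (map_mem_centralizer_iff_of_extends hPR hx hu (centralizer_le_normalizer P hcomm)).2 hcomm

/-- Elements of `p`-power order of the automizer of a centric subgroup have trivial extensions. -/
theorem pElement_mem_extSystem [Finite S] [Fact p.Prime] (hS : IsPGroup p S) (hE : E.IsWeaklyNormalIn F p)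
    (hP : E.IsCentric P) {α : MulAut P} (hα : α ∈ E.autGroup P) (hk : ∃ k : ℕ, orderOf α = p ^ k) :
    α ∈ (extSystem hE.2.2).autGroup P := by
  obtain ⟨hEs, hF, hinv⟩ := hE
  have : Finite T := finite_sub hinv
  have hT := isPGroup_sub hinv hS
  have hPT := hP.1
  have hPS : P ≤ S := hPT.trans hinv.2.1.1
  obtain ⟨P', hconj, hP'⟩ := exists_isFullyNormalized F hPS
  obtain ⟨e, he, ψN, hψN, hψNn, hag⟩ := exists_normalizer_map hS hF hP' hconj
  have hP'c : E.IsCentric P' := isCentric_of_fConj hinv hP hconj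
  have hP'T : P' ≤ T := hP'c.1
  have hP'E : E.IsFullyNormalized P' :=
    CfsgLib.FusionQuot.isFullyNormalized_of_subsystem hS hF hinv.2.1 hinv.1 hP'T hP'
  have : Finite P' := finite_of_le hP'.1
  have : Finite (MulAut P') := finite_mulAut
  have hα' : MulAut.congr e α ∈ E.autGroup P' :=
    CfsgLib.FusionQuot.congr_mem_autGroup_of_invariant hinv hPT hP'T he hα
  obtain ⟨k, hk⟩ := hk
  have hpg : IsPGroup p (Subgroup.zpowers (⟨MulAut.congr e α, hα'⟩ : E.autGroup P')) :=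
    IsPGroup.of_card (n := k) (by
      rw [Nat.card_zpowers, ← Subgroup.orderOf_coe]
      exact ((MulAut.congr e).orderOf_eq α).trans hk)
  obtain ⟨-, TS, hTS⟩ := isFullyAutomized_of_isFullyNormalized hT hEs hP'E
  obtain ⟨γ, hγ⟩ := exists_conj_le_sylow TS hpg
  have h1 := hγ _ (Subgroup.mem_zpowers _)
  rw [hTS, Subgroup.mem_subgroupOf] at h1
  obtain ⟨t, htN, htT, hteq⟩ := exists_eq_conjAut h1
  set W := P' ⊔ centralizerIn S P' with hW
  have hP'W : P' ≤ W := le_sup_left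
  have hUW : centralizerIn S P' ≤ W := le_sup_right
  have hWN : W ≤ normalizerIn S P' := sup_le (le_normalizerIn hP'.1) (centralizerIn_le_normalizerIn S P')
  have hWS : W ≤ S := hWN.trans (normalizerIn_le S P')
  have : Finite W := finite_of_le hWS
  have hγiso : IsFIso F ((γ⁻¹ : E.autGroup P') : MulAut P') :=
    (mem_autGroup_iff hP'.1).1 (CfsgLib.FusionQuot.autGroup_le_of_subsystem hinv.1 P' (γ⁻¹).2)
  have hrec := isReceptive_of_isFullyNormalized hS hF hP'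
  have hext : W ≤ extender S P' (P'.subtype.comp ((γ⁻¹ : E.autGroup P') : MulAut P').toMonoidHom) :=
    sup_le (le_extender hP'.1 fun x => map_mem hγiso x) (centralizerIn_le_extender _)
  obtain ⟨g, hg, hgN, hgx⟩ := hγiso.exists_extension hrec hP'W hWN fun u hu =>
    (mem_extender_iff_congr _ (fun _ => rfl) (hWN hu).1 (hWN hu).2).1 (hext hu)
  -- the extension maps `P'C_S(P')` to itself
  have hgU : ∀ u : W, (u : Ω) ∈ centralizerIn S P' → g u ∈ centralizerIn S P' := fun u hu =>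
    ⟨map_mem hg u, map_mem_centralizer_of_commute hP'W hgx u.2 hu.2⟩
  have hgW : ∀ u, g u ∈ W := by
    have h : W ≤ (W.comap g).map W.subtype := by
      refine sup_le (fun x hx => ⟨⟨x, hP'W hx⟩, ?_, rfl⟩) fun u hu => ⟨⟨u, hUW hu⟩, hUW (hgU _ hu), rfl⟩
      show g _ ∈ W
      rw [hgx ⟨x, hx⟩]
      exact hP'W (Subtype.coe_prop _)
    intro u
    obtain ⟨u', hu', e'⟩ := h u.2
    rwa [show u' = u from Subtype.ext e'] at hu'
  obtain ⟨G, hG, hGx⟩ := exists_aut hg (range_eq_of_le (hom_inj hg) hgW)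
  have htW : t ∈ Subgroup.normalizer (W : Set Ω) := by
    refine Subgroup.mem_normalizer_iff_map_conj_eq.2 ?_
    rw [hW, Subgroup.map_sup]
    congr 1
    · exact Subgroup.mem_normalizer_iff_map_conj_eq.1 htN
    · have : t ∈ Subgroup.normalizer ((centralizerIn S P' : Subgroup Ω) : Set Ω) := by
        refine Subgroup.mem_normalizer_iff.2 fun c => ⟨conj_mem_centralizerIn ⟨hinv.2.1.1 htT, htN⟩, fun hc => ?_⟩
        have := conj_mem_centralizerIn (inv_mem (show t ∈ normalizerIn S P' from ⟨hinv.2.1.1 htT, htN⟩)) hc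
        simpa [mul_assoc] using this
      exact Subgroup.mem_normalizer_iff_map_conj_eq.1 this
  set δ : MulAut W := G * conjAut W t htW * G⁻¹ with hδ
  have hδF : δ ∈ F.autGroup W := (F.autGroup W).mul_mem ((F.autGroup W).mul_mem hG
    ((mem_autGroup_iff hWS).2 (isFIso_conjAut hWS (hinv.2.1.1 htT) htW))) ((F.autGroup W).inv_mem hG)
  have hGP : ∀ x : P', ((G ⟨x, hP'W x.2⟩ : W) : Ω) = (((γ⁻¹ : E.autGroup P') : MulAut P') x : Ω) :=
    fun x => (hGx _).trans (hgx x)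
  have hGsymm : ∀ x : P', G⁻¹ ⟨x, hP'W x.2⟩ = ⟨(((γ : MulAut P') x : P') : Ω), hP'W (Subtype.coe_prop _)⟩ := by
    intro x
    apply G.injective
    rw [MulAut.apply_inv_self]
    refine Subtype.ext ((hGP ((γ : MulAut P') x)).trans ?_).symm
    rw [Subgroup.coe_inv, MulAut.inv_apply_self]
  have hδP : ∀ x : P', ((δ ⟨x, hP'W x.2⟩ : W) : Ω) = (MulAut.congr e α x : P') := by
    intro x
    rw [hδ, MulAut.mul_apply, MulAut.mul_apply, hGsymm]
    rw [show conjAut W t htW ⟨(((γ : MulAut P') x : P') : Ω), hP'W (Subtype.coe_prop _)⟩ =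
        ⟨(conjAut P' t htN ((γ : MulAut P') x) : P'), hP'W (Subtype.coe_prop _)⟩ from Subtype.ext rfl,
      hGP, ← hteq]
    simp [MulAut.mul_apply]
  have hδU : ∀ u : W, (u : Ω) ∈ centralizerIn S P' → (u : Ω)⁻¹ * (δ u : Ω) ∈ P' := by
    intro u hu
    set w := G⁻¹ u
    have hw : (w : Ω) ∈ Subgroup.centralizer (P' : Set Ω) := by
      have hinvx : ∀ x : P', W.subtype.comp (G⁻¹ : MulAut W).toMonoidHom ⟨x, hP'W x.2⟩ =
          ((γ : MulAut P') x : Ω) := fun x => congrArg Subtype.val (hGsymm x)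
      exact map_mem_centralizer_of_commute (e := ((γ : MulAut P') : P' ≃* P')) hP'W hinvx u.2 hu.2
    have hwS : (w : Ω) ∈ S := hWS w.2
    set z := (w : Ω)⁻¹ * (t * w * t⁻¹) with hz
    have hzU : z ∈ centralizerIn S P' := by
      exact (centralizerIn S P').mul_mem ((centralizerIn S P').inv_mem ⟨hwS, hw⟩)
        (conj_mem_centralizerIn ⟨hinv.2.1.1 htT, htN⟩ ⟨hwS, hw⟩)
    have hzT : z ∈ T := by
      have h2 : (w : Ω)⁻¹ * t * w ∈ T := by
        have := map_mem_closed hinv (F.conj_mem le_rfl (S.inv_mem hwS)) (⟨t, hinv.2.1.1 htT⟩ : S) htT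
        simpa [conjHom_apply] using this
      rw [hz, show (w : Ω)⁻¹ * (t * w * t⁻¹) = (w : Ω)⁻¹ * t * w * t⁻¹ by group]
      exact T.mul_mem h2 (T.inv_mem htT)
    have hzP : z ∈ P' := hP'c.2 P' (isConj_refl E hP'T) ⟨hzT, hzU.2⟩
    have h3 : δ u = u * G ⟨z, hP'W hzP⟩ := by
      rw [hδ, MulAut.mul_apply, MulAut.mul_apply,
        show conjAut W t htW (G⁻¹ u) = w * ⟨z, hP'W hzP⟩ from Subtype.ext (by
          show t * (w : Ω) * t⁻¹ = (w : Ω) * z
          rw [hz, mul_inv_cancel_left]), map_mul, MulAut.apply_inv_self]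
    rw [h3, Subgroup.coe_mul, inv_mul_cancel_left, hGP ⟨z, hzP⟩]
    exact Subtype.coe_prop _
  -- back to `P`
  have hC : centralizerIn S T ≤ centralizerIn S P := inf_le_inf_left _ (Subgroup.centralizer_le hPT)
  have hR : P ⊔ centralizerIn S T ≤ normalizerIn S P :=
    sup_le (le_normalizerIn hPS) (hC.trans (centralizerIn_le_normalizerIn S P))
  set θ := ψN.comp (Subgroup.inclusion hR) with hθ
  have hθF : θ ∈ F.Hom _ := restrict_mem hψN hR
  have hθx : ∀ x : P, θ (Subgroup.inclusion le_sup_left x) = (e x : Ω) := hag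
  have hθc : ∀ c : ↥(P ⊔ centralizerIn S T), (c : Ω) ∈ centralizerIn S T → θ c ∈ centralizerIn S P' := fun c hc =>
    ⟨map_mem hθF c, map_mem_centralizer_of_commute (le_sup_left) hθx c.2 (hC hc).2⟩
  have hθP : P' ≤ θ.range := fun y hy => ⟨_, (hθx (e.symm ⟨y, hy⟩)).trans (by rw [MulEquiv.apply_symm_apply])⟩
  have hθW : ∀ y, θ y ∈ W := by
    have h : P ⊔ centralizerIn S T ≤ (W.comap θ).map (P ⊔ centralizerIn S T).subtype := by
      refine sup_le (fun x hx => ⟨Subgroup.inclusion le_sup_left ⟨x, hx⟩, ?_, rfl⟩) fun c hc =>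
        ⟨⟨c, le_sup_right (a := P) hc⟩, hUW (hθc _ hc), rfl⟩
      show θ _ ∈ W
      rw [hθx]
      exact hP'W (Subtype.coe_prop _)
    intro y
    obtain ⟨y', hy', e'⟩ := h y.2
    rwa [show y' = y from Subtype.ext e'] at hy'
  have hδθ : ∀ y, ((δ ⟨θ y, hθW y⟩ : W) : Ω) ∈ θ.range := by
    have h : P ⊔ centralizerIn S T ≤ (θ.range.comap
        ((W.subtype.comp δ.toMonoidHom).comp (θ.codRestrict W hθW))).map (P ⊔ centralizerIn S T).subtype := by
      refine sup_le (fun x hx => ⟨Subgroup.inclusion le_sup_left ⟨x, hx⟩, ?_, rfl⟩) fun c hc =>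
        ⟨⟨c, le_sup_right (a := P) hc⟩, ?_, rfl⟩
      · show ((δ ⟨θ _, _⟩ : W) : Ω) ∈ θ.range
        rw [show (⟨θ (Subgroup.inclusion le_sup_left ⟨x, hx⟩), hθW _⟩ : W) =
          ⟨(e ⟨x, hx⟩ : Ω), hP'W (Subtype.coe_prop _)⟩ from Subtype.ext (hθx _), hδP]
        exact hθP (Subtype.coe_prop _)
      · show ((δ ⟨θ _, _⟩ : W) : Ω) ∈ θ.range
        have h2 := θ.range.mul_mem (MonoidHom.mem_range.2 ⟨⟨c, le_sup_right (a := P) hc⟩, rfl⟩)
          (hθP (hδU ⟨θ ⟨c, le_sup_right (a := P) hc⟩, hθW _⟩ (hθc ⟨c, le_sup_right (a := P) hc⟩ hc)))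
        rwa [mul_inv_cancel_left] at h2
    intro y
    obtain ⟨y', hy', e'⟩ := h y.2
    rwa [show y' = y from Subtype.ext e'] at hy'
  obtain ⟨η, hη, hηx⟩ := F.inv_mem hθF
  refine (mem_autGroup_iff_hom hPT).2 ⟨(mem_autGroup_iff_hom hPT).1 hα, fun _ => ?_⟩
  have hmid : (W.subtype.comp δ.toMonoidHom).comp (θ.codRestrict W hθW) ∈ F.Hom _ :=
    F.comp_mem hθF ((mem_autGroup_iff_hom hWS).1 hδF) hθW
  refine ⟨_, F.comp_mem hmid hη hδθ, fun x => ?_, fun c hc => ?_⟩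
  · show η ⟨((δ ⟨θ (Subgroup.inclusion le_sup_left x), hθW _⟩ : W) : Ω), hδθ _⟩ = (α x : Ω)
    have h2 : ((δ ⟨θ (Subgroup.inclusion le_sup_left x), hθW _⟩ : W) : Ω) =
        θ (Subgroup.inclusion le_sup_left (α x)) := by
      rw [show (⟨θ (Subgroup.inclusion le_sup_left x), hθW _⟩ : W) = ⟨(e x : Ω), hP'W (Subtype.coe_prop _)⟩ from
        Subtype.ext (hθx _), hδP, hθx, congr_apply, MulEquiv.symm_apply_apply]
    rw [show (⟨((δ ⟨θ (Subgroup.inclusion le_sup_left x), hθW _⟩ : W) : Ω), hδθ _⟩ : θ.range) =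
      ⟨θ (Subgroup.inclusion le_sup_left (α x)), ⟨_, rfl⟩⟩ from Subtype.ext h2, hηx]
    rfl
  · show (c : Ω)⁻¹ * η ⟨((δ ⟨θ c, hθW c⟩ : W) : Ω), hδθ c⟩ ∈ T
    have hd := hδU ⟨θ c, hθW c⟩ (hθc c hc)
    obtain ⟨x, hx⟩ : ∃ x : P, θ (c * Subgroup.inclusion le_sup_left x) = ((δ ⟨θ c, hθW c⟩ : W) : Ω) :=
      ⟨e.symm ⟨_, hd⟩, by rw [map_mul, hθx, MulEquiv.apply_symm_apply, mul_inv_cancel_left]⟩
    rw [show (⟨((δ ⟨θ c, hθW c⟩ : W) : Ω), hδθ c⟩ : θ.range) = ⟨_, ⟨_, rfl⟩⟩ from Subtype.ext hx.symm, hηx]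
    show (c : Ω)⁻¹ * ((c : Ω) * (x : Ω)) ∈ T
    rw [inv_mul_cancel_left]
    exact hPT x.2

theorem isPPrimeGen_extSystem [Finite S] [Fact p.Prime] (hS : IsPGroup p S) (hE : E.IsWeaklyNormalIn F p) :
    IsPPrimeGen E p (extSystem hE.2.2) := fun _ hP =>
  oPAut_le_of_forall fun _ hα hk => pElement_mem_extSystem hS hE hP hα hk

end CfsgLib.FusionWeakNormal
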