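import Cfsg.Agent.Lib.FusionWeakNormal.Basic
import Cfsg.Agent.Lib.Fusion.CentricExtend

/-!
# The `p'`-residual lies in every weakly normal subsystem over the same subgroup
-/

set_option autoImplicit false

namespace CfsgLib.FusionWeakNormal

open Cfsg Cfsg.FusionSystem CfsgLib.Fusion

variable {Ω : Type*} [Group Ω] {S T : Subgroup Ω} {F : Cfsg.FusionSystem S} {E D : Cfsg.FusionSystem T}
variable {P Q : Subgroup Ω} {p : ℕ}

theorem isCentric_of_invariant (hE : E.IsInvariantIn F) (hD : D.IsInvariantIn F) (hP : E.IsCentric P) :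
    D.IsCentric P :=
  ⟨hP.1, fun R hR => by
    have := isCentric_of_fConj hE hP (CfsgLib.FusionQuot.isConj_of_subsystem hD.1 hR)
    exact this.2 R (isConj_refl E this.1)⟩

theorem pElement_mem_of_invariant [Finite S] [Fact p.Prime] (hS : IsPGroup p S) (hE : E.IsWeaklyNormalIn F p)
    (hD : D.IsInvariantIn F) (hP : P ≤ T) {α : MulAut P} (hα : α ∈ E.autGroup P)
    (hk : ∃ k : ℕ, orderOf α = p ^ k) : α ∈ D.autGroup P := by
  obtain ⟨hEs, hF, hinv⟩ := hE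
  have : Finite T := finite_sub hinv
  have hT := isPGroup_sub hinv hS
  obtain ⟨P', hconj, hP'⟩ := exists_isFullyNormalized F (hP.trans hinv.2.1.1)
  obtain ⟨e, he⟩ := exists_iso_of_isConj hconj
  have hP'T : P' ≤ T := isConj_le_base hinv hP hconj
  have hP'E : E.IsFullyNormalized P' :=
    CfsgLib.FusionQuot.isFullyNormalized_of_subsystem hS hF hinv.2.1 hinv.1 hP'T hP'
  have : Finite P' := finite_of_le hP'.1
  have : Finite (MulAut P') := finite_mulAut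
  have hα' : MulAut.congr e α ∈ E.autGroup P' :=
    CfsgLib.FusionQuot.congr_mem_autGroup_of_invariant hinv hP hP'T he hα
  obtain ⟨k, hk⟩ := hk
  have hpg : IsPGroup p (Subgroup.zpowers (⟨MulAut.congr e α, hα'⟩ : E.autGroup P')) :=
    IsPGroup.of_card (n := k) (by
      rw [Nat.card_zpowers, ← Subgroup.orderOf_coe]
      exact ((MulAut.congr e).orderOf_eq α).trans hk)
  obtain ⟨-, TS, hTS⟩ := isFullyAutomized_of_isFullyNormalized hT hEs hP'E
  obtain ⟨γ, hγ⟩ := exists_conj_le_sylow TS hpg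
  have h1 := hγ _ (Subgroup.mem_zpowers _)
  rw [hTS, Subgroup.mem_subgroupOf] at h1
  have h2 := CfsgLib.FusionQuot.conj_mem_autGroup_of_invariant hD hP'T
    (inv_mem (CfsgLib.FusionQuot.autGroup_le_of_subsystem hinv.1 P' γ.2)) (autInducedBy_le_autGroup D hP'T h1)
  have h3 : MulAut.congr e α ∈ D.autGroup P' := by simpa [mul_assoc] using h2
  have h4 := CfsgLib.FusionQuot.congr_mem_autGroup_of_invariant hD hP'T hP he.symm h3
  have e1 : MulAut.congr e.symm (MulAut.congr e α) = α := MulEquiv.ext fun x => by simp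
  rwa [e1] at h4

theorem isPPrimeGen_of_invariant [Finite S] [Fact p.Prime] (hS : IsPGroup p S) (hE : E.IsWeaklyNormalIn F p)
    (hD : D.IsInvariantIn F) : IsPPrimeGen E p D := fun _ hP =>
  oPAut_le_of_forall fun _ hα hk => pElement_mem_of_invariant hS hE hD hP.1 hα hk

theorem isPPrimeGen_inf [Finite S] [Fact p.Prime] (hS : IsPGroup p S) (hE : E.IsWeaklyNormalIn F p)
    (hD : D.IsInvariantIn F) : IsPPrimeGen E p (infSystem E D) := fun P hP α hα =>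
  (mem_autGroup_iff_hom hP.1).2 ⟨(mem_autGroup_iff_hom hP.1).1 (oPAut_le E p P hα),
    (mem_autGroup_iff_hom hP.1).1 (isPPrimeGen_of_invariant hS hE hD P hP hα)⟩

/-- Some power prime to `p` of a quotient of automorphisms from two weakly normal subsystems is inner. -/
theorem exists_pow_mem_inn [Finite S] [Fact p.Prime] (hS : IsPGroup p S) (hE : E.IsWeaklyNormalIn F p)
    (hD : D.IsWeaklyNormalIn F p) {a d : MulAut T} (ha : a ∈ E.autGroup T) (hd : d ∈ D.autGroup T) :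
    ∃ n, n.Coprime p ∧ (d⁻¹ * a) ^ n ∈ Cfsg.Inn T := by
  have : Finite T := finite_sub hE.2.2
  have : Finite (MulAut T) := finite_mulAut
  have hT := isPGroup_sub hE.2.2 hS
  have idx : ∀ {A : Cfsg.FusionSystem T}, A.IsSaturated p →
      ∀ x ∈ A.autGroup T, x ^ ((Cfsg.Inn T).subgroupOf (A.autGroup T)).index ∈ Cfsg.Inn T ∧
        (((Cfsg.Inn T).subgroupOf (A.autGroup T)).index).Coprime p := by
    intro A hA x hx
    have := inn_subgroupOf_normal A T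
    refine ⟨?_, ?_⟩
    · have h := Subgroup.pow_index_mem ((Cfsg.Inn T).subgroupOf (A.autGroup T)) ⟨x, hx⟩
      exact h
    · obtain ⟨-, TS, hTS⟩ := isFullyAutomized_of_isFullyNormalized hT hA (isFullyNormalized_top A)
      rw [inn_eq_autInducedBy, ← hTS]
      exact ((Fact.out : p.Prime).coprime_iff_not_dvd.2 TS.not_dvd_index).symm
  obtain ⟨hdB, hcoB⟩ := idx hD.1 d hd
  obtain ⟨-, hcoA⟩ := idx hE.1 a ha
  set nA := ((Cfsg.Inn T).subgroupOf (E.autGroup T)).index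
  set nB := ((Cfsg.Inn T).subgroupOf (D.autGroup T)).index
  refine ⟨nB * nA, hcoB.mul_left hcoA, ?_⟩
  have hEF := CfsgLib.FusionQuot.autGroup_le_of_subsystem hE.2.2.1 T
  have hDF := CfsgLib.FusionQuot.autGroup_le_of_subsystem hD.2.2.1 T
  let A := (E.autGroup T).subgroupOf (F.autGroup T)
  have hAn : A.Normal := ⟨fun x hx g => Subgroup.mem_subgroupOf.2 (by
    exact CfsgLib.FusionQuot.conj_mem_autGroup_of_invariant hE.2.2 le_rfl g.2 hx)⟩
  have hmem : (d⁻¹ * a) ^ nB ∈ E.autGroup T := by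
    let c : F.autGroup T := (⟨d, hDF hd⟩ : F.autGroup T)⁻¹ * ⟨a, hEF ha⟩
    have h1 : (QuotientGroup.mk' A c) = (QuotientGroup.mk' A ⟨d, hDF hd⟩)⁻¹ := by
      rw [map_mul, map_inv]
      have : QuotientGroup.mk' A ⟨a, hEF ha⟩ = 1 := (QuotientGroup.eq_one_iff _).2 (Subgroup.mem_subgroupOf.2 ha)
      rw [this, mul_one]
    have h2 : QuotientGroup.mk' A (c ^ nB) = 1 := by
      rw [map_pow, h1, inv_pow, ← map_pow, inv_eq_one]
      exact (QuotientGroup.eq_one_iff _).2 (Subgroup.mem_subgroupOf.2 (inn_le_autGroup E le_rfl hdB))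
    exact Subgroup.mem_subgroupOf.1 ((QuotientGroup.eq_one_iff _).1 h2)
  have := (idx hE.1 _ hmem).1
  rwa [← pow_mul] at this

/-- An automorphism of `T` in `E` whose restriction to a centric subgroup lies in `D` is in `D`. -/
theorem mem_autGroup_of_restrict [Finite S] [Fact p.Prime] (hS : IsPGroup p S) (hE : E.IsWeaklyNormalIn F p)
    (hD : D.IsWeaklyNormalIn F p) {a : MulAut T} (ha : a ∈ E.autGroup T) :
    ∀ (n : ℕ) (P : Subgroup Ω) (hP : E.IsCentric P), Nat.card T - Nat.card P = n →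
      (T.subtype.comp a.toMonoidHom).comp (Subgroup.inclusion hP.1) ∈ D.Hom P → a ∈ D.autGroup T := by
  intro n
  induction n using Nat.strong_induction_on with
  | _ n ih =>
  intro P hP hn h
  have hinv := hE.2.2
  have hinv' := hD.2.2
  have : Finite T := finite_sub hinv
  have hT := isPGroup_sub hinv hS
  rcases hP.1.eq_or_lt with rfl | hlt
  · exact (mem_autGroup_iff_hom le_rfl).2 (mem_of_restrict h le_rfl _ fun _ => rfl)
  set X := normalizerIn T P with hX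
  have hPX : P ≤ X := le_normalizerIn hP.1
  have hXT : X ≤ T := normalizerIn_le T P
  have hN := lt_normalizerIn hT hlt
  have : Finite X := finite_of_le hXT
  have : Finite (MulAut X) := finite_mulAut
  refine ih _ ?_ X (isCentric_mono hP hPX hXT) rfl ?_
  · have h1 := Descent.card_lt_card_of_lt hXT hN
    have h2 := Descent.card_le_of_le hXT
    omega
  set φ := (T.subtype.comp a.toMonoidHom).comp (Subgroup.inclusion hP.1) with hφ
  -- extend in `D`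
  obtain ⟨f, hf, hfx⟩ := exists_iso h rfl
  have hYc : E.IsCentric φ.range := isCentric_of_fConj hinv hP (isConj_of_mem (hinv'.1 P h))
  have hrec := isReceptive_of_isCentric hT hD.1 (isCentric_of_invariant hinv hinv' hYc)
  obtain ⟨g, hg, -, hgx⟩ := hf.exists_extension hrec hPX le_rfl fun x hx => by
    refine mem_autInducedBy_iff.2 ⟨(a ⟨x, hXT hx⟩ : T), Subtype.coe_prop _, fun y => ?_⟩
    obtain ⟨y, rfl⟩ := f.surjective y
    rw [congr_apply, MulEquiv.symm_apply_apply, hfx, hfx]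
    show ((a ⟨x * (y : Ω) * x⁻¹, _⟩ : T) : Ω) = _
    rw [show (⟨x * (y : Ω) * x⁻¹, hP.1 (conj_mem_of_mem_normalizer hx.2 y.2)⟩ : T) =
      ⟨x, hXT hx⟩ * ⟨y, hP.1 y.2⟩ * ⟨x, hXT hx⟩⁻¹ from Subtype.ext rfl, map_mul, map_mul, map_inv]
    rfl
  set ψ := (T.subtype.comp a.toMonoidHom).comp (Subgroup.inclusion hXT) with hψ
  have hψE : ψ ∈ E.Hom X := restrict_mem ((mem_autGroup_iff_hom le_rfl).1 ha) hXT
  have hψP : ∀ y : P, ψ ⟨y, hPX y.2⟩ = g ⟨y, hPX y.2⟩ := fun y => by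
    rw [hgx, hfx]; rfl
  have hrange : ∀ x, ψ x ∈ g.range := by
    intro x
    have hz : (g x)⁻¹ * ψ x ∈ φ.range := by
      refine hYc.2 _ (isConj_refl E hYc.1) ⟨T.mul_mem (T.inv_mem (map_mem hg x)) (map_mem hψE x),
        Subgroup.mem_centralizer_iff.2 ?_⟩
      rintro _ ⟨y, rfl⟩
      have hy : ψ ⟨y, hPX y.2⟩ = φ y := rfl
      have h1 := hψP ⟨_, conj_mem_of_mem_normalizer x.2.2 y.2⟩
      have e1 : (⟨(x : Ω) * y * (x : Ω)⁻¹, hPX (conj_mem_of_mem_normalizer x.2.2 y.2)⟩ : X) =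
          x * ⟨y, hPX y.2⟩ * x⁻¹ := Subtype.ext rfl
      rw [e1, map_mul, map_mul, map_inv, map_mul, map_mul, map_inv, ← hψP y, hy] at h1
      calc φ y * ((g x)⁻¹ * ψ x) = (g x)⁻¹ * (g x * φ y * (g x)⁻¹) * ψ x := by group
        _ = (g x)⁻¹ * (ψ x * φ y * (ψ x)⁻¹) * ψ x := by rw [h1]
        _ = _ := by group
    obtain ⟨y, hy⟩ := hz
    exact ⟨x * ⟨y, hPX y.2⟩, by
      rw [map_mul, show g ⟨y, hPX y.2⟩ = φ y from (hψP y).symm, hy, mul_inv_cancel_left]⟩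
  obtain ⟨η, hη, hηx⟩ := F.inv_mem (hinv'.1 X hg)
  have hmF : η.comp (ψ.codRestrict g.range hrange) ∈ F.Hom X := F.comp_mem (hinv.1 X hψE) hη hrange
  have hmX : ∀ x, η.comp (ψ.codRestrict g.range hrange) x ∈ X := fun x => by
    obtain ⟨x', hx'⟩ := hrange x
    show η ⟨ψ x, _⟩ ∈ X
    rw [show (⟨ψ x, hrange x⟩ : g.range) = ⟨g x', ⟨x', rfl⟩⟩ from Subtype.ext hx'.symm, hηx]
    exact x'.2
  obtain ⟨m, hm, hmx⟩ := exists_aut hmF (range_eq_of_le (hom_inj hmF) hmX)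
  have hgm : ∀ x : X, g (m x) = ψ x := by
    intro x
    obtain ⟨x', hx'⟩ := hrange x
    have h1 : m x = x' := Subtype.ext (by
      rw [hmx]
      show η ⟨ψ x, _⟩ = x'
      rw [show (⟨ψ x, hrange x⟩ : g.range) = ⟨g x', ⟨x', rfl⟩⟩ from Subtype.ext hx'.symm, hηx])
    rw [h1, hx']
  have hmP : ∀ x : X, (x : Ω) ∈ P → m x = x := fun x hx =>
    hom_inj hg ((hgm x).trans (hψP ⟨x, hx⟩))
  -- `m` has `p`-power order
  have hdisp : ∀ x : X, ((x⁻¹ * m x : X) : Ω) ∈ P := by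
    intro x
    refine hP.2 P (isConj_refl E hP.1) ⟨hXT (x⁻¹ * m x : X).2, Subgroup.mem_centralizer_iff.2 fun y hy => ?_⟩
    have h1 : m (x * ⟨y, hPX hy⟩ * x⁻¹) = x * ⟨y, hPX hy⟩ * x⁻¹ :=
      hmP _ (conj_mem_of_mem_normalizer x.2.2 hy)
    rw [map_mul, map_mul, map_inv, hmP ⟨y, hPX hy⟩ hy] at h1
    have h2 : (⟨y, hPX hy⟩ : X) * (x⁻¹ * m x) = x⁻¹ * m x * ⟨y, hPX hy⟩ := by
      calc (⟨y, hPX hy⟩ : X) * (x⁻¹ * m x) = x⁻¹ * (x * ⟨y, hPX hy⟩ * x⁻¹) * m x := by group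
        _ = x⁻¹ * (m x * ⟨y, hPX hy⟩ * (m x)⁻¹) * m x := by rw [h1]
        _ = _ := by group
    exact congrArg Subtype.val h2
  have hmpow : ∀ (j : ℕ) (x : X), (m ^ j) x = x * (x⁻¹ * m x) ^ j := by
    intro j
    induction j with
    | zero => intro x; simp
    | succ j ihj =>
      intro x
      rw [pow_succ', MulAut.mul_apply, ihj, map_mul, map_pow, hmP (x⁻¹ * m x) (hdisp x), pow_succ', ← mul_assoc,
        mul_inv_cancel_left]
  -- compare with `c = d⁻¹ a`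
  obtain ⟨d, hd, g₀, hg₀, hgd⟩ := pPrimeGenSystem_factors hT hD.1 X g hg
  have hg₀E : g₀ ∈ E.Hom X := pPrimeGenSystem_le (isPPrimeGen_of_invariant hS hD hinv) X hg₀
  have hc : d⁻¹ * a ∈ F.autGroup T := mul_mem (inv_mem (CfsgLib.FusionQuot.autGroup_le_of_subsystem hinv'.1 T hd))
    (CfsgLib.FusionQuot.autGroup_le_of_subsystem hinv.1 T ha)
  have hc₀ : ∀ x : X, ((d⁻¹ * a) ⟨x, hXT x.2⟩ : Ω) = g₀ (m x) := by
    intro x
    have h1 := hgd (m x) (map_mem hg₀E _)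
    rw [hgm] at h1
    have h2 : a ⟨x, hXT x.2⟩ = d ⟨g₀ (m x), map_mem hg₀E _⟩ := Subtype.ext h1
    rw [MulAut.mul_apply, h2, MulAut.inv_apply_self]
  set c := d⁻¹ * a
  have hiter : ∀ j : ℕ, ∃ h ∈ (infSystem E D).Hom X, ∀ x : X, h ((m ^ j) x) = ((c ^ j) ⟨x, hXT x.2⟩ : Ω) := by
    intro j
    induction j with
    | zero => exact ⟨_, ⟨subtype_mem E hXT, subtype_mem D hXT⟩, fun x => rfl⟩
    | succ j ihj =>
      obtain ⟨h, hh, hhx⟩ := ihj
      obtain ⟨χ, hχ, hχx⟩ := autInvariant_conj hinv.2.2.1 hh.1 hc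
      obtain ⟨χ', hχ', hχ'x⟩ := autInvariant_conj hinv'.2.2.1 hh.2 hc
      have hχe : χ = χ' := MonoidHom.ext fun ⟨_, y, hy, e'⟩ => by
        subst e'
        exact (hχx ⟨y, hy⟩ _).trans (hχ'x ⟨y, hy⟩ _).symm
      subst hχe
      have hgc : ∀ z : X, g₀ z ∈ (X.subgroupOf T).map (T.subtype.comp c.toMonoidHom) := fun z => by
        obtain ⟨y, rfl⟩ := m.surjective z
        exact ⟨⟨y, hXT y.2⟩, y.2, hc₀ y⟩
      refine ⟨_, (infSystem E D).comp_mem ⟨hg₀E, hg₀.1⟩ ⟨hχ, hχ'⟩ hgc, fun x => ?_⟩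
      show χ ⟨g₀ ((m ^ (j + 1)) x), hgc _⟩ = _
      have e2 : (⟨g₀ ((m ^ (j + 1)) x), hgc _⟩ : ↥((X.subgroupOf T).map (T.subtype.comp c.toMonoidHom))) =
          ⟨(c ⟨(m ^ j) x, hXT ((m ^ j) x).2⟩ : Ω), ⟨_, ((m ^ j) x).2, rfl⟩⟩ := Subtype.ext (by
        show g₀ ((m ^ (j + 1)) x) = _
        rw [pow_succ', MulAut.mul_apply, ← hc₀])
      refine (congrArg χ e2).trans ((hχx ((m ^ j) x) _).trans ?_)
      rw [pow_succ', MulAut.mul_apply]
      exact congrArg (fun t : T => ((c t : T) : Ω)) (Subtype.ext (hhx x))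
  obtain ⟨k, hk, hinn⟩ := exists_pow_mem_inn hS hE hD ha hd
  obtain ⟨t, ht⟩ := hinn
  obtain ⟨h₁, hh₁, hh₁x⟩ := hiter k
  have hmk : m ^ k ∈ E.autGroup X := by
    obtain ⟨θ, hθ, hθx⟩ := E.inv_mem hh₁.1
    have hr : ∀ x : X, (t : Ω) * x * (t : Ω)⁻¹ ∈ h₁.range := fun x => ⟨(m ^ k) x, by
      rw [hh₁x, ← ht]; rfl⟩
    refine (mem_autGroup_iff_hom hXT).2 (mem_of_comp (E.conj_mem hXT t.2) hθ hr _ fun x => ?_)
    have e3 : (⟨(t : Ω) * x * (t : Ω)⁻¹, hr x⟩ : h₁.range) = ⟨h₁ ((m ^ k) x), ⟨_, rfl⟩⟩ :=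
      Subtype.ext (by show _ = h₁ ((m ^ k) x); rw [hh₁x, ← ht]; rfl)
    show ((m ^ k) x : Ω) = θ ⟨(t : Ω) * x * (t : Ω)⁻¹, hr x⟩
    rw [e3, hθx]
  have : Finite P := finite_of_le hP.1
  obtain ⟨i, hi⟩ := IsPGroup.iff_card.1 (hT.to_le hP.1)
  have hmord : m ^ p ^ i = 1 := MulEquiv.ext fun x => by
    have h1 : (⟨_, hdisp x⟩ : P) ^ p ^ i = 1 := by rw [← hi]; exact pow_card_eq_one'
    have h2 : (x⁻¹ * m x : X) ^ p ^ i = 1 := Subtype.ext (by simpa using congrArg Subtype.val h1)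
    rw [hmpow, h2, mul_one]
    rfl
  obtain ⟨j, hj⟩ := exists_pow_eq_self_of_coprime (x := m) (n := k)
    ((Nat.Coprime.pow_right i hk).coprime_dvd_right (orderOf_dvd_of_pow_eq_one hmord))
  have hmE : m ∈ E.autGroup X := hj ▸ pow_mem hmk j
  obtain ⟨z, -, rfl⟩ := CentricExtend.exists_conj_of_fix hT hE.1 hP hPX le_rfl hmE hmP
  exact mem_of_comp (D.conj_mem hXT (hXT z.2)) hg (fun x => (MulAut.conj z x).2) ψ fun x => (hgm x).symm

/-- The `p'`-residual is the least weakly normal subsystem over its subgroup. -/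
theorem residual_le [Finite S] [Fact p.Prime] (hS : IsPGroup p S) (hE : E.IsWeaklyNormalIn F p)
    (hD : D.IsWeaklyNormalIn F p) : (pPrimeResidualSystem E p).IsSubsystemOf D := by
  intro P φ hφ
  have hgen := isPPrimeGen_inf hS hE hD.2.2
  refine (hφ.2 (infSystem E D) hgen ?_).2
  intro Q R hQR ψ hψ hQ h
  refine ⟨hψ, ?_⟩
  have : Finite T := finite_sub hE.2.2
  obtain ⟨a, ha, ψ₀, hψ₀, hx⟩ := pPrimeGenSystem_factors (isPGroup_sub hE.2.2 hS) hE.1 R ψ hψ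
  have hψ₀i := pPrimeGenSystem_le hgen R hψ₀
  set φ₀ := ψ₀.comp (Subgroup.inclusion hQR)
  obtain ⟨θ, hθ, hθx⟩ := D.inv_mem (restrict_mem hψ₀i.2 hQR)
  have hP : E.IsCentric φ₀.range := isCentric_of_isConj hQ (isConj_of_mem (restrict_mem hψ₀.1 hQR))
  have hQmem : ∀ y, θ y ∈ Q := by
    rintro ⟨_, x, rfl⟩
    rw [hθx]
    exact x.2
  have haP : (T.subtype.comp a.toMonoidHom).comp (Subgroup.inclusion hP.1) ∈ D.Hom φ₀.range := by
    refine mem_of_comp hθ h.2 hQmem _ ?_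
    rintro ⟨_, x, rfl⟩
    rw [show (⟨θ ⟨φ₀ x, ⟨x, rfl⟩⟩, hQmem _⟩ : Q) = x from Subtype.ext (hθx x)]
    exact (hx (Subgroup.inclusion hQR x) (map_mem hψ₀i.1 _)).symm
  have key := mem_autGroup_of_restrict hS hE hD ha _ φ₀.range hP rfl haP
  exact mem_of_comp hψ₀i.2 ((mem_autGroup_iff_hom le_rfl).1 key) (map_mem hψ₀i.1) ψ fun x =>
    hx x (map_mem hψ₀i.1 x)

end CfsgLib.FusionWeakNormal
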